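import Cfsg.Agent.Mrg.Omega.NO3b.Seed.Chain
import Cfsg.Agent.Mrg.Omega.NO3b.Exit.LocBar
import Cfsg.Agent.Mrg.Omega.NO3b.Chain.Group
import Cfsg.Agent.Mrg.Omega.NO3S.Level.Cut

section


/-!
# The chain with a seed `Y`: `O₂(M / C_M(V)) = 1` (#20856 (1))

`Root S Y L`, `M = M(L)`, `V = V(L) = ⟨Y^M⟩`.  Suppose `P*(S) ⊆ M` and every weakly closed subgroup of `S` which lies
in `O₂(P')` for all `P' ∈ P*(S)` centralises `Y` (`Core`).

* `red_grp` : a normal subgroup `N` of `M` which acts as a 2-group on `V` centralises `V`;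
* `red` : `Red (im h M) (ad hc V)` (`Exit/LocBar.lean`).
-/

set_option autoImplicit false
set_option linter.unusedSectionVars false

namespace Cfsg.Agent.Omega.NO3b.Seed

open Subgroup Cfsg
open Cfsg.Agent.ZN (o2 zc zl jj zj)
open Cfsg.Agent.ZN.ChoiceBase hiding mem_zc
open Cfsg.Agent.ZN.ChoiceSit (Syl o2_le_syl syl_not_dvd)
open Cfsg.Agent.MinSimple.EmptyTI (syl_of_le)
open Cfsg.Agent.Omega.MinPar Cfsg.Agent.Omega.Frame Cfsg.Agent.Omega.FrameNOFF
open Cfsg.Agent.Omega.NO3b.EZero (NotFF Par oddGen_sup_syl cl le_cl cj_le_cl cl_le le_normalizer_cl cent_symm)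
open Cfsg.Agent.Omega.NO3b.Wc (WC StmtOff)
open Cfsg.Agent.Omega.NO3b.Chain (le_normalizer_inf le_normalizer_centralizer oddGen_le_or)
open Cfsg.Agent.Omega.NO3b.Exit.Bridge
open Cfsg.Agent.Omega.NO3b.Exit.TDat (Red)
open Cfsg.Agent.Omega.NO3b.Exit.LocBar (pr_mem_im)
open Cfsg.Agent.Omega.FFBr (XX pr im mem_im)
open Cfsg.Agent.MinSimple.VModule (oddGen zc_comm zc_sq le_normalizer_o2 normalizer_le_normalizer_zc)

open scoped Pointwise

universe u

variable {G : Type u} [Group G] [Finite G] {S : Sylow 2 G} {Y P L : Subgroup G}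

/-- Every weakly closed subgroup of `S` which lies in `O₂(P')` for all `P' ∈ P*(S)` centralises `Y`. -/
def Core (S Y : Subgroup G) : Prop :=
  ∀ K : Subgroup G, WC S K → (∀ R, IsParS S R → K ≤ o2 R) → K ≤ centralizer (Y : Set G)

/-- a normal subgroup of `M(L)` which acts as a 2-group on `V(L)`, centralises `V(L)`: the case `C_M(V) ≤ N` -/
theorem red_aux (h : Root S Y L) (hc : IsCharacteristicTwoType G) (hK : Core (S : Subgroup G) Y)
    (hpar : ∀ R, IsParS (S : Subgroup G) R → R ≤ ML (S : Subgroup G) Y L) {N : Subgroup G}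
    (hN : N ≤ ML (S : Subgroup G) Y L) (hNn : ML (S : Subgroup G) Y L ≤ normalizer (N : Set G))
    (hC : ML (S : Subgroup G) Y L ⊓ centralizer (VL (S : Subgroup G) Y L : Set G) ≤ N)
    (h2 : ∀ n ∈ N, ∃ j : ℕ, n ^ 2 ^ j ∈ centralizer (VL (S : Subgroup G) Y L : Set G)) :
    N ≤ centralizer (VL (S : Subgroup G) Y L : Set G) := by
  have : Fact (Nat.Prime 2) := ⟨Nat.prime_two⟩
  have hSM : (S : Subgroup G) ≤ ML (S : Subgroup G) Y L := h.S_le
  -- `S ∩ N` is weakly closed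
  have hW : WH (S : Subgroup G) Y L ≤ (S : Subgroup G) ⊓ N :=
    le_inf (WH_le_S _ _ _) ((le_inf ((WH_le_S _ _ _).trans hSM) h.WH_cent).trans hC)
  have hwc : WC (S : Subgroup G) ((S : Subgroup G) ⊓ N) := by
    refine ⟨inf_le_left, fun g hg => ?_⟩
    have hgM : g ∈ ML (S : Subgroup G) Y L := mem_ML_of_le ((cj_mono g hW).trans hg)
    have h1 : cj g ((S : Subgroup G) ⊓ N) ≤ (S : Subgroup G) ⊓ N := by
      refine le_inf hg ?_
      rw [cj_inf, cj_eq_of_mem_normalizer (hNn hgM)]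
      exact inf_le_right
    exact Subgroup.eq_of_le_of_card_ge h1 (card_cj _ _).ge
  -- `S ∩ N ≤ O₂(P')`
  have hle : ∀ R, IsParS (S : Subgroup G) R → (S : Subgroup G) ⊓ N ≤ o2 R := by
    intro R hR
    rcases oddGen_le_or hc hR.toIsPar ((hpar R hR).trans hNn) with h1 | h1
    · exfalso
      apply hR.not_zc
      have hodd : oddGen R ≤ centralizer (VL (S : Subgroup G) Y L : Set G) := by
        rw [oddGen, closure_le]
        rintro x ⟨hx, ho⟩
        obtain ⟨j, hj⟩ := h2 x (h1 (MinSimple.VModule.mem_oddGen hx ho))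
        have hco : Nat.Coprime (2 ^ j) (orderOf x) := Nat.Coprime.pow_left _ ((Nat.coprime_two_left).2 ho)
        have h3 : x ∈ zpowers (x ^ 2 ^ j) := by
          rw [mem_zpowers_iff]
          obtain ⟨k, hk⟩ := exists_pow_eq_self_of_coprime hco
          exact ⟨k, by rw [zpow_natCast]; exact hk⟩
        exact (zpowers_le.2 hj) h3
      rw [← oddGen_sup_syl (syl_of_le hR.le)]
      refine sup_le ?_ (Subgroup.le_normalizer.trans (normalizer_le_normalizer_zc _))
      exact (hodd.trans (centralizer_le h.zc_le_V)).trans (centralizer_le_normalizer _)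
    · have h3 := IsParS.inf_centralizer S hc hR
      rw [← h3]
      exact le_inf inf_le_left h1
  have hSY : (S : Subgroup G) ⊓ N ≤ centralizer (Y : Set G) := hK _ hwc hle
  -- `N` centralises `Y`
  have hNY : N ≤ centralizer (Y : Set G) := by
    set C : Subgroup G := ML (S : Subgroup G) Y L ⊓ centralizer (VL (S : Subgroup G) Y L : Set G) with hCdef
    have hCn : (C.subgroupOf N).Normal := normal_subgroupOf_of_le_normalizer (hN.trans
      (le_normalizer_inf Subgroup.le_normalizer (le_normalizer_centralizer (ML_le_norm_V _ _ _))))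
    have hq : IsPGroup 2 (N ⧸ C.subgroupOf N) := by
      intro q
      induction q using QuotientGroup.induction_on with | _ x =>
      obtain ⟨j, hj⟩ := h2 x x.2
      refine ⟨j, ?_⟩
      rw [← QuotientGroup.mk_pow, QuotientGroup.eq_one_iff, mem_subgroupOf]
      exact ⟨Subgroup.pow_mem _ (hN x.2) _, hj⟩
    obtain ⟨k, hk⟩ := IsPGroup.iff_card.1 hq
    have hCi : C.relIndex N = 2 ^ k := hk
    have hsy : Syl ((S : Subgroup G) ⊓ N) N := Cfsg.Agent.Omega.NO3S.Tens.syl_inf (syl_of_le hSM) hN hNn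
    have h4 : ¬ 2 ∣ ((S : Subgroup G) ⊓ N).relIndex N := syl_not_dvd hsy
    set St : Subgroup G := N ⊓ centralizer (Y : Set G) with hSt
    have h5 : St.relIndex N ∣ ((S : Subgroup G) ⊓ N).relIndex N :=
      relIndex_dvd_of_le_left N (le_inf inf_le_right hSY)
    have h6 : St.relIndex N ∣ 2 ^ k := by
      rw [← hCi]
      exact relIndex_dvd_of_le_left N (le_inf hC (inf_le_right.trans (centralizer_le (Y_le_V _ _ _))))
    obtain ⟨i, hi, h7⟩ := (Nat.dvd_prime_pow Nat.prime_two).1 h6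
    have h8 : i = 0 := by
      by_contra h0
      apply h4
      refine dvd_trans ?_ h5
      rw [h7]
      exact dvd_pow_self 2 h0
    rw [h8, pow_zero] at h7
    exact (relIndex_eq_one.1 h7).trans inf_le_right
  -- `V = ⟨Y^M⟩`
  refine cent_symm ?_
  exact cl_le' (cent_symm hNY) (le_normalizer_centralizer hNn)

/-- **(RED)** a normal subgroup of `M(L)` which acts as a 2-group on `V(L)`, centralises `V(L)`. -/
theorem red_grp (h : Root S Y L) (hc : IsCharacteristicTwoType G) (hK : Core (S : Subgroup G) Y)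
    (hpar : ∀ R, IsParS (S : Subgroup G) R → R ≤ ML (S : Subgroup G) Y L) {N : Subgroup G}
    (hN : N ≤ ML (S : Subgroup G) Y L) (hNn : ML (S : Subgroup G) Y L ≤ normalizer (N : Set G))
    (h2 : ∀ n ∈ N, ∃ j : ℕ, n ^ 2 ^ j ∈ centralizer (VL (S : Subgroup G) Y L : Set G)) :
    N ≤ centralizer (VL (S : Subgroup G) Y L : Set G) := by
  set C : Subgroup G := ML (S : Subgroup G) Y L ⊓ centralizer (VL (S : Subgroup G) Y L : Set G) with hCdef
  have hCn : ML (S : Subgroup G) Y L ≤ normalizer (C : Set G) :=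
    le_normalizer_inf Subgroup.le_normalizer (le_normalizer_centralizer (ML_le_norm_V _ _ _))
  have h1 : C ⊔ N ≤ centralizer (VL (S : Subgroup G) Y L : Set G) := by
    refine red_aux h hc hK hpar (sup_le inf_le_left hN) ?_ le_sup_left ?_
    · exact fun m hm => mem_normalizer_iff_cj.2 (by
        change Subgroup.map _ _ = _
        rw [Subgroup.map_sup]
        change cj m C ⊔ cj m N = _
        rw [cj_eq_of_mem_normalizer (hCn hm), cj_eq_of_mem_normalizer (hNn hm)])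
    · intro x hx
      have hNC : N ≤ normalizer (C : Set G) := hN.trans hCn
      have hx' : x ∈ (C : Set G) * (N : Set G) := by
        rw [← coe_mul_of_right_le_normalizer_left C N hNC]
        exact hx
      obtain ⟨c, hcC, n, hn, rfl⟩ := Set.mem_mul.1 hx'
      obtain ⟨j, hj⟩ := h2 n hn
      refine ⟨j, ?_⟩
      have key : ∀ i : ℕ, ∃ c' ∈ C, (c * n) ^ i = c' * n ^ i := by
        intro i
        induction i with
        | zero => exact ⟨1, one_mem _, by simp⟩
        | succ i ih =>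
          obtain ⟨c', hc', e⟩ := ih
          refine ⟨c' * (n ^ i * c * (n ^ i)⁻¹), mul_mem hc' ?_, ?_⟩
          · exact (mem_normalizer_iff.1 (hNC (pow_mem hn i)) c).1 hcC
          · rw [pow_succ, e, pow_succ]; group
      obtain ⟨c', hc', e⟩ := key (2 ^ j)
      rw [e]
      exact mul_mem hc'.2 hj
  exact le_sup_right.trans h1

/-- **(RED)** in `Exit/LocBar.lean` form. -/
theorem red {U H : Subgroup G} (hN : H ≤ normalizer (U : Set G)) (hU : U ≤ centralizer (U : Set G))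
    (h : Root S Y L) (hc : IsCharacteristicTwoType G) (hK : Core (S : Subgroup G) Y)
    (hpar : ∀ R, IsParS (S : Subgroup G) R → R ≤ ML (S : Subgroup G) Y L)
    (hM : ML (S : Subgroup G) Y L ≤ H) (hVU : VL (S : Subgroup G) Y L ≤ U) :
    Red (im hN (ML (S : Subgroup G) Y L)) (ad hU (VL (S : Subgroup G) Y L)) := by
  intro N hNM hNn h2 n hn v hv
  -- the preimage in `M`
  set N' : Subgroup G := ML (S : Subgroup G) Y L ⊓ Chain.pre hN N with hN'
  have h1 : N' ≤ centralizer (VL (S : Subgroup G) Y L : Set G) := by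
    refine red_grp h hc hK hpar inf_le_left ?_ ?_
    · exact le_normalizer_inf Subgroup.le_normalizer (Chain.le_normalizer_pre hN hM hNn)
    · rintro x ⟨hxM, hxN⟩
      obtain ⟨hxH, hxN'⟩ := (Chain.mem_pre hN).1 hxN
      obtain ⟨j, hj⟩ := h2 _ hxN'
      refine ⟨j, ?_⟩
      rw [mem_centralizer_iff]
      intro w hw
      have h3 := hj (mk hU (hVU hw)) hw
      rw [← map_pow] at h3
      exact ((pr_smul_eq_iff' hN).1 h3).symm
  obtain ⟨a, ha, rfl⟩ := mem_im.1 (hNM hn)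
  refine (pr_smul_eq_iff' hN).2 ?_
  exact mem_centralizer_iff.1 (h1 ⟨ha, (Chain.mem_pre hN).2 ⟨hM ha, hn⟩⟩) _ hv |>.symm

end Cfsg.Agent.Omega.NO3b.Seed

end

section


/-!
# The case (G) of the cut of GammaFF: the chain from `X₀ = Ω₁(Z(O₂(P)))` (#20856 (0), (1))

`CaseG S P` (`NO3S/Level/Cut.lean`), `Q = O₂(P)`, `Y = X₀ = Ω₁(Z(Q))`, `M₀ = N_G(Q)`.

* `CaseG.seed`, `CaseG.stage` : `Seed S Y P`, `Stage S Y P`; `CaseG.WH_eq`, `ML_eq`, `VL_eq` : `W(P) = Q`,
  `M(P) = M₀`, `V(P) = X₀`;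
* `CaseG.core`, `CaseG.par_le` : the hypotheses of `Seed/Red.lean` along the chain; `CaseG.red`;
* `CaseG.cs_zl` : `C_S(V_P) = Q` centralises `X₀` (hypothesis of `oddGen_le_of_not`);
* `CaseG.cent_eq` : (0) `C_G(V_P) = C_G(X₀)`;
* `CaseG.geo` : `ClosedPt.Geo S Z X₀ M₀`;
* `CaseG.exists_last` : the last member of the chain: every panel over `Z` has `⟨X₀^H⟩` FF or not in `O₂(C_G(Z))`.
-/

set_option autoImplicit false
set_option linter.unusedSectionVars false

namespace Cfsg.Agent.Omega.NO3S.Level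

open Subgroup Cfsg Cfsg.Agent.ZN Cfsg.Agent.ZN.ChoiceBase Cfsg.Agent.Omega.MinPar Cfsg.Agent.Omega.Frame
open Cfsg.Agent.Omega.FrameNOFF (CZ)
open Cfsg.Agent.Omega.FFThm (OffM ElemM NoOverM)
open Cfsg.Agent.Omega.NO3b.EZero (cl le_cl cj_le_cl cl_le le_normalizer_cl cent_symm)
open Cfsg.Agent.Omega.NO3b.Wc (WC)
open Cfsg.Agent.Omega.NO3b

universe u

variable {G : Type u} [Group G] [Finite G] {S : Sylow 2 G} {P L : Subgroup G}

namespace CaseG

variable (h : CaseG S P)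
include h

theorem seed : Seed.Seed S (zc (o2 P)) P := Seed.seed_of h.ctx.char2 h.pss.par.isLoc

theorem cl_eq : cl (zc (o2 P)) P = zc (o2 P) :=
  Seed.cl_eq ((MinSimple.VModule.le_normalizer_o2 P).trans (MinSimple.VModule.normalizer_le_normalizer_zc _))

/-- `C_S(X₀) = Q` -/
theorem cs : (S : Subgroup G) ⊓ centralizer (zc (o2 P) : Set G) = o2 P := by
  have h1 := cs_X0 h.ctx.char2 h.hj
  rwa [h.X0_eq, h.K0_eq] at h1

theorem nffY : EZero.NotFF (zc (o2 P)) := by
  have h1 := h.toW0.nff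
  rwa [h.X0_eq] at h1

theorem stage : Seed.Stage S (zc (o2 P)) P where
  le := h.pss.par.isLoc.le
  ZY := h.seed.ZY
  comm := by rw [h.cl_eq, ← h.X0_eq]; exact X0_comm _
  sq := by rw [h.cl_eq, ← h.X0_eq]; exact X0_sq _
  nff := by rw [h.cl_eq]; exact h.nffY
  cs := by rw [h.cl_eq, h.cs]; exact MinSimple.VModule.le_normalizer_o2 P
  low := by rw [h.cl_eq]; exact h.linesG.low

theorem QL_eq : Seed.QL (S : Subgroup G) (zc (o2 P)) P = o2 P := by rw [Seed.QL, h.cl_eq, h.cs]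

theorem WH_eq : Seed.WH (S : Subgroup G) (zc (o2 P)) P = o2 P := by
  rw [Seed.Root.WH_eq (by rw [h.QL_eq]; exact h.wc), h.QL_eq]

theorem ML_eq : Seed.ML (S : Subgroup G) (zc (o2 P)) P = M0 (S : Subgroup G) := by
  rw [Seed.ML, h.WH_eq, h.M0_eq]

theorem VL_eq : Seed.VL (S : Subgroup G) (zc (o2 P)) P = zc (o2 P) := by
  rw [Seed.VL, Seed.ML, h.WH_eq]
  exact Seed.cl_eq (MinSimple.VModule.normalizer_le_normalizer_zc _)

/-- Weakly closed subgroups of `S` in all `O₂(P')` centralise `X₀`. -/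
theorem core : Seed.Core (S : Subgroup G) (zc (o2 P)) := fun K hK hK2 => by
  have h1 := le_K0 hK hK2
  rw [h.K0_eq] at h1
  exact h1.trans (MinSimple.VModule.le_centralizer_zc _)

variable (r : Seed.Reach S (zc (o2 P)) P L)

theorem M0_le (r : Seed.Reach S (zc (o2 P)) P L) :
    M0 (S : Subgroup G) ≤ Seed.ML (S : Subgroup G) (zc (o2 P)) L := by
  rw [← h.ML_eq]
  exact r.ML_le h.ctx.char2 h.zc_ne h.stage

/-- `P*(S) ⊆ M(L)` -/
theorem par_le (r : Seed.Reach S (zc (o2 P)) P L) (R : Subgroup G) (hR : IsParS (S : Subgroup G) R) :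
    R ≤ Seed.ML (S : Subgroup G) (zc (o2 P)) L := (Level.par_le hR).trans (h.M0_le r)

/-- **(RED)** -/
theorem red {U H : Subgroup G} (hN : H ≤ normalizer (U : Set G)) (hU : U ≤ centralizer (U : Set G))
    (r : Seed.Reach S (zc (o2 P)) P L) (hM : Seed.ML (S : Subgroup G) (zc (o2 P)) L ≤ H)
    (hVU : Seed.VL (S : Subgroup G) (zc (o2 P)) L ≤ U) :
    Exit.TDat.Red (FFBr.im hN (Seed.ML (S : Subgroup G) (zc (o2 P)) L))
      (Exit.Bridge.ad hU (Seed.VL (S : Subgroup G) (zc (o2 P)) L)) :=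
  Seed.red hN hU (r.stage h.ctx.char2 h.zc_ne h.stage).toRoot h.ctx.char2 h.core (h.par_le r) hM hVU

/-- `C_S(V_P) = Q` -/
theorem cs_zl : (S : Subgroup G) ⊓ centralizer (zl (S : Subgroup G) P : Set G) = o2 P :=
  IsParS.inf_centralizer S h.ctx.char2 h.pss.par

theorem cs_zl_le : (S : Subgroup G) ⊓ centralizer (zl (S : Subgroup G) P : Set G) ≤
    centralizer (cl (zc (o2 P)) P : Set G) := by
  rw [h.cs_zl, h.cl_eq]
  exact MinSimple.VModule.le_centralizer_zc _

theorem zl_le : zl (S : Subgroup G) P ≤ zc (o2 P) := h.lt.le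

/-- **(0)** `C_G(V_P) = C_G(X₀)` -/
theorem cent_eq : centralizer (zl (S : Subgroup G) P : Set G) = centralizer (zc (o2 P) : Set G) := by
  refine le_antisymm ?_ (centralizer_le h.zl_le)
  have h1 := h.stage.cent_le h.ctx.char2 h.zc_ne (A := zl (S : Subgroup G) P) (MinSimple.VModule.zc_le_zl _ _)
    (h.pss.par.isLoc.le.trans (MinSimple.VModule.le_normalizer_zl _ _)) (by
      rw [h.cs_zl, h.VL_eq]
      exact MinSimple.VModule.le_centralizer_zc _)
  rwa [h.VL_eq] at h1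

/-- `N_G(V_P) ≤ N_G(X₀)` -/
theorem norm_zl_le : normalizer (zl (S : Subgroup G) P : Set G) ≤ normalizer (zc (o2 P) : Set G) := by
  intro n hn
  have hSV : (S : Subgroup G) ≤ normalizer (zl (S : Subgroup G) P : Set G) :=
    h.pss.par.isLoc.le.trans (MinSimple.VModule.le_normalizer_zl _ _)
  obtain ⟨c, hc, hcn⟩ := Exit.frattini hSV hn
  rw [h.cs_zl] at hcn
  rw [h.cent_eq] at hc
  have h1 : c⁻¹ * n ∈ normalizer (zc (o2 P) : Set G) := MinSimple.VModule.normalizer_le_normalizer_zc _ hcn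
  have h2 := mul_mem (centralizer_le_normalizer _ hc) h1
  rwa [mul_inv_cancel_left] at h2

/-- `(M₀, X₀)` is a pair for #19499. -/
theorem geo : ClosedPt.Geo (S : Subgroup G) (zc (S : Subgroup G)) (zc (o2 P)) (M0 (S : Subgroup G)) := by
  have h1 := h.stage.geoV h.ctx.char2 h.zc_ne (by rw [h.ML_eq]; exact h.nonLoc_M0)
  rwa [h.VL_eq, h.ML_eq] at h1

/-- `⟨M(L), C_G(Z)⟩` is not local -/
theorem nonLoc (r : Seed.Reach S (zc (o2 P)) P L) :
    NonLoc (Seed.ML (S : Subgroup G) (zc (o2 P)) L) (CZ (S : Subgroup G)) :=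
  fun U hU h1 h2 => h.nonLoc_M0 U hU ((h.M0_le r).trans h1) h2

/-- `(M(L), V(L))` is a pair for #19499. -/
theorem geo_of (r : Seed.Reach S (zc (o2 P)) P L) : ClosedPt.Geo (S : Subgroup G) (zc (S : Subgroup G))
    (Seed.VL (S : Subgroup G) (zc (o2 P)) L) (Seed.ML (S : Subgroup G) (zc (o2 P)) L) :=
  (r.stage h.ctx.char2 h.zc_ne h.stage).geoV h.ctx.char2 h.zc_ne (h.nonLoc r)

/-- **The last member of the chain**: there are panels over `Z`; for each of them `⟨X₀^H⟩` is FF, or is not in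
`O₂(C_G(Z))`. -/
theorem exists_last : ∃ L, Seed.Reach S (zc (o2 P)) P L ∧ Seed.Stage S (zc (o2 P)) L ∧
    Seed.Seed S (zc (o2 P)) L ∧ (∀ F T X, ¬ Seed.Step S (zc (o2 P)) L F T X) ∧
    (∃ F T X, Alpha.Fl S (Seed.VL (S : Subgroup G) (zc (o2 P)) L) F T ∧ zc (S : Subgroup G) ≤ F ∧
      EZero.Par (Seed.VL (S : Subgroup G) (zc (o2 P)) L) F T X) ∧
    ∀ F T X, Alpha.Fl S (Seed.VL (S : Subgroup G) (zc (o2 P)) L) F T → zc (S : Subgroup G) ≤ F →
      EZero.Par (Seed.VL (S : Subgroup G) (zc (o2 P)) L) F T X →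
      ¬ EZero.NotFF (cl (zc (o2 P)) (Seed.nx (S : Subgroup G) (zc (o2 P)) L X)) ∨
      ¬ cl (zc (o2 P)) (Seed.nx (S : Subgroup G) (zc (o2 P)) L X) ≤ o2 (centralizer (zc (S : Subgroup G) : Set G)) := by
  obtain ⟨L, r, hl⟩ := Seed.exists_last h.ctx.char2 h.zc_ne h.stage
  have hs := r.stage h.ctx.char2 h.zc_ne h.stage
  have hsd := r.seed h.ctx.char2 h.zc_ne h.stage h.seed
  have hPL := r.le h.ctx.char2 h.zc_ne h.stage
  exact ⟨L, r, hs, hsd, hl, hs.exists_panel h.ctx.char2 h.zc_ne (hs.toRoot.nle hPL h.pss.nonLoc h.zc_ne),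
    fun F T X f hZ p => Seed.last_or h.ctx.char2 h.zc_ne hsd hs hl f hZ p⟩

end CaseG

end Cfsg.Agent.Omega.NO3S.Level

end
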