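import Cfsg.Agent.Mrg.Omega.NO3b.Seed.Two
import Cfsg.Agent.Mrg.Omega.NO3b.BetaTwo.NoOver
import Cfsg.Agent.Mrg.Omega.NO3b.Seed.Red
import Cfsg.Agent.Mrg.Omega.NO3b.Base.MoveCent

section


/-!
# THEOREM BETA2 (bb #20914) for the chain with a seed `Y` (helper235's `BetaTwo/{Plug,Main}.lean`)

`Stage S Y L`, `(F, T, X)` a panel of `V = VL S Y L`, `Z ≤ F`, `H = nx S Y L X`, `V_H = cl Y H`.

* `exists_bt` : `V_H` not FF and not in `O₂(C_G(Z))`: `BetaTwo.Bt V F T X (N_G(C_S(V))) C_S(V) V' F₁`,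
  `V' = VL S Y (LH S Y H)`, with `⟨V^H⟩ ≤ V'`, `⟨V^H⟩ ≰ E`;
* `beta2` : at a member `L` of the chain every panel with `V_H` not FF has `V_H ≤ O₂(C_G(Z))`;
* `last_ff` : `V_H` is FF for every panel, if it is FF or not in `O₂(C_G(Z))`.
-/

set_option autoImplicit false
set_option linter.unusedSectionVars false

namespace Cfsg.Agent.Omega.NO3b.Seed

open Subgroup Cfsg
open Cfsg.Agent.ZN (o2 zc zl)
open Cfsg.Agent.ZN.ChoiceBase hiding mem_zc
open Cfsg.Agent.Omega.NO3b.EZero (NotFF Par cent_symm cj_cent cl le_cl cj_le_cl cl_le le_normalizer_cl)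
open Cfsg.Agent.Omega.NO3b.Alpha (Fl)
open Cfsg.Agent.Omega.NO3b.Exit (WW_pgroup pan sm)
open Cfsg.Agent.Omega.NO3b.BetaTwo (NoOver Bt noOver_of)
open Cfsg.Agent.Omega.NO3b.K0.Mix (Pan SM Two)
open Cfsg.Agent.Omega.NOne.Flat (EE WW NN)
open Cfsg.Agent.Omega.NOne.NearFF (c)

universe u

variable {G : Type u} [Group G] [Finite G] {S : Sylow 2 G} {Y L F T X : Subgroup G}

/-- the lines are good -/
theorem good_cj (h : Stage S Y L) (hc : IsCharacteristicTwoType G) (g : G) (D : Subgroup G)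
    (hD : D ≤ cj g (VL (S : Subgroup G) Y L)) (hD1 : D ≠ ⊥) :
    cj g (VL (S : Subgroup G) Y L) ≤ o2 (centralizer (D : Set G)) := by
  have h1 := h.good hc (D := cj g⁻¹ D) (by
    have h1 := cj_mono g⁻¹ hD
    rwa [cj_inv_cj] at h1) (fun h0 => hD1 (by
    have h1 := congrArg (cj g) h0
    rwa [cj_cj_inv, K0.cj_bot'] at h1))
  have h2 := cj_mono g h1
  rwa [← Cfsg.Agent.ZN.ChoiceBase.pCore_cj, cj_centralizer, cj_cj_inv] at h2

section

variable (h : Stage S Y L) (hsd : Seed S Y L) (hc : IsCharacteristicTwoType G)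
  (hne : zc (S : Subgroup G) ≠ ⊥)
  (f : Fl S (VL (S : Subgroup G) Y L) F T) (hZ : zc (S : Subgroup G) ≤ F)
  (p : Par (VL (S : Subgroup G) Y L) F T X)
include h hsd hc hne f hZ p

theorem exists_bt (hno : NoOver (VL (S : Subgroup G) Y L) X) (hn : NotFF (cl Y (nx (S : Subgroup G) Y L X)))
    (hV : ¬ cl Y (nx (S : Subgroup G) Y L X) ≤ o2 (centralizer (zc (S : Subgroup G) : Set G))) :
    ∃ F₁ : Subgroup G, Bt (VL (S : Subgroup G) Y L) F T X
      (normalizer (((S : Subgroup G) ⊓ centralizer (VL (S : Subgroup G) Y L : Set G) : Subgroup G) : Set G))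
      ((S : Subgroup G) ⊓ centralizer (VL (S : Subgroup G) Y L : Set G))
      (VL (S : Subgroup G) Y (LH (S : Subgroup G) Y (nx (S : Subgroup G) Y L X))) F₁ ∧
      ¬ cl (VL (S : Subgroup G) Y L) (nx (S : Subgroup G) Y L X) ≤
        EE (VL (S : Subgroup G) Y (LH (S : Subgroup G) Y (nx (S : Subgroup G) Y L X))) F₁ ∧
      cl (VL (S : Subgroup G) Y L) (nx (S : Subgroup G) Y L X) ≤
        VL (S : Subgroup G) Y (LH (S : Subgroup G) Y (nx (S : Subgroup G) Y L X)) := by
  set V := VL (S : Subgroup G) Y L with hVd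
  set H := nx (S : Subgroup G) Y L X with hH
  set V' := VL (S : Subgroup G) Y (LH (S : Subgroup G) Y H) with hV'
  have fr := h.fr hsd hc hne f hZ p
  have a := h.adm hc hne
  have l := h.lines hc hne
  have hOff := Final.stmtOff G
  have hle : cl Y H ≤ V' := fr.cl_le_V' a hn
  obtain ⟨F₁, hF₁, hWB, hWX, -⟩ := fr.beta a hc hOff (S_ne hne) hn (fun h0 => hV (hle.trans h0))
  have root : Root S Y (LH (S : Subgroup G) Y H) := root_LH (fr.SH a) fr.Yz a.ZY hn
  have hy : NOne.Flat.Hyp V' F₁ := hyp_of hc root hF₁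
  have pn := pan f l p fun g hg => Alpha.ti hc l g hg
  have hVH : cl V H ≤ cl Y H := by
    refine cl_le fun x hx => ?_
    have h1 := cj_mono x fr.V_le
    rwa [cj_eq_of_mem_normalizer (le_normalizer_cl _ _ hx)] at h1
  have hHV : cl Y H ≤ cl V H := cl_mono_left H (Y_le_V _ _ _)
  have hUH : cl V X ≤ cl Y H := fr.U_le
  refine ⟨F₁, ?_, fun h0 => ?_, hVH.trans hle⟩
  · exact
      { pan := pn
        noov := K0.noOv FFBr.aStmt (f.sylX p) (f.isMinPar l p)
        sm := sm l hc pn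
        two := h.two hsd hc hne f hZ p (Or.inr hV)
        hno := hno
        hy := hy
        hoff := hOff _ _ hy
        good := good_cj h hc
        WQ := by
          have h1 := h.toRoot.cs_V
          rw [h1]
          exact hWB
        WX := hWX
        UV := hUH.trans hle }
  · -- `W` centralises `V_H`
    have h1 : cl Y H ≤ EE V' F₁ := hHV.trans h0
    have h2 := hy.off_of_le (hOff _ _ hy) h1
    have hW2 : IsPGroup 2 (WW V' F₁) := WW_pgroup _ _
    have hWH : WW V' F₁ ≤ normalizer (cl Y H : Set G) :=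
      ((hWB.trans a.wc.le).trans (fr.SH a)).trans (le_normalizer_cl _ _)
    obtain ⟨e1, e2⟩ := hy.elem_W hle
    by_cases hcen : WW V' F₁ ≤ centralizer (cl Y H : Set G)
    · exact hWX (pn.le_o2_of_cent_U hW2 ((hWB.trans fr.BT).trans fr.syl.1) (hcen.trans (centralizer_le hUH)))
    · have h3 := hn (WW V' F₁) hW2 hWH (fun s hs => by rw [pow_two]; exact e2 s hs)
        (fun s hs t ht => e1 s hs t ht) hcen
      exact absurd h2 (not_le.2 h3)

/-- **THEOREM BETA2** -/
theorem beta2 (hn : NotFF (cl Y (nx (S : Subgroup G) Y L X))) :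
    cl Y (nx (S : Subgroup G) Y L X) ≤ o2 (centralizer (zc (S : Subgroup G) : Set G)) := by
  by_contra hV
  have l := h.lines hc hne
  have pn := pan f l p fun g hg => Alpha.ti hc l g hg
  have s := Exit.Bridge.Sit.of_fl hc l f p pn.U_comm pn.U_sq (le_cl _ _) (le_normalizer_cl _ _)
  obtain ⟨F₁, t, h1, h2⟩ := exists_bt h hsd hc hne f hZ p (noOver_of s) hn hV
  have e : normalizer (((S : Subgroup G) ⊓ centralizer (VL (S : Subgroup G) Y L : Set G) : Subgroup G) : Set G) =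
      ML (S : Subgroup G) Y L := by
    rw [h.toRoot.cs_V]
    rfl
  rw [e] at t
  exact t.false (le_refl (nx (S : Subgroup G) Y L X)) le_sup_left le_sup_right h1 h2

/-- `V_H` is FF, if it is FF or not in `O₂(C_G(Z))`. -/
theorem last_ff (hl : ¬ NotFF (cl Y (nx (S : Subgroup G) Y L X)) ∨
      ¬ cl Y (nx (S : Subgroup G) Y L X) ≤ o2 (centralizer (zc (S : Subgroup G) : Set G))) :
    ¬ NotFF (cl Y (nx (S : Subgroup G) Y L X)) := by
  intro hn
  rcases hl with h1 | h1
  · exact h1 hn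
  · exact h1 (beta2 h hsd hc hne f hZ p hn)

end

end Cfsg.Agent.Omega.NO3b.Seed

end

section


/-!
# The maximal admissible frame with a seed `Y` (`BasePt/LocStage.lean` for the seeded chain)

* `LocY S Y M B` : `B` is admissible (`Adm S Y M B`), `|VB Y B|` is maximal, `M ≤ N_G(B)`, `Seed S Y (N_G(B))`;
  `exists_locY`;
* `LocY.stage` : `Stage S Y L` for `L = N_G(B)`; `WH_eq`, `ML_eq`, `VL_eq` : `WH S Y L = B`, `ML S Y L = L`,
  `VL S Y L = VB Y B`;
* `LocY.no_step` : there is no step of the chain from `L`;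
* `LocY.last_ff` : `V_H = ⟨Y^H⟩` is FF for every panel, `H = ⟨L, X⟩`;
* `LocY.oz` : `Base.OZ S Y B (VB Y B)`;
* `LocY.min`, `LocY.loc`, `LocY.fr`, `LocY.two`, `LocY.ff` : `B` is minimal; for a panel over `Z`: `H` is local, the
  frame `Fr`, two noncentral factors, `V_H` is FF;
* `LocY.le_normalizer_of_stage` : `Stage S Y J`, `L ≤ J` imply `J ≤ N_G(V)`;
* `LocY.red` : `O₂(L / C_L(V)) = 1`;
-/

set_option autoImplicit false
set_option linter.unusedSectionVars false

namespace Cfsg.Agent.Omega.NO3b.Seed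

open Subgroup Cfsg
open Cfsg.Agent.ZN (o2 zc zl jj zj)
open Cfsg.Agent.ZN.ChoiceBase hiding mem_zc
open Cfsg.Agent.Omega.MinPar Cfsg.Agent.Omega.Frame Cfsg.Agent.Omega.FrameNOFF
open Cfsg.Agent.Omega.NO3b.EZero (NotFF Par cl le_cl cj_le_cl cl_le le_normalizer_cl)
open Cfsg.Agent.Omega.NO3b.Alpha (Fl)
open Cfsg.Agent.Omega.NO3b.NoEmp (Lines)
open Cfsg.Agent.Omega.NO3b.Wc (WC StmtOff)
open Cfsg.Agent.Omega.NO3b.Exit (wc_S_le)
open Cfsg.Agent.Omega.NO3b.Exit.TDat (Red)
open Cfsg.Agent.Omega.NO3b.Exit.Bridge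
open Cfsg.Agent.Omega.FFBr (XX pr im mem_im)
open Cfsg.Agent.Omega.NO3b.Base (OZ PanZ)

universe u

variable {G : Type u} [Group G] [Finite G]

/-- **The maximal admissible frame.** -/
structure LocY (S : Sylow 2 G) (Y M B : Subgroup G) : Prop where
  adm : Adm S Y M B
  max : ∀ B' : Subgroup G, Adm S Y M B' → Nat.card (VB Y B') ≤ Nat.card (VB Y B)
  le : M ≤ normalizer (B : Set G)
  seed : Seed S Y (normalizer (B : Set G))

variable {S : Sylow 2 G} {Y M B : Subgroup G}

/-- `L` normalises every weakly closed subgroup of `S` in `C_S(⟨Y^L⟩)`. -/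
theorem L_le_norm {L : Subgroup G} (h : Root S Y L) (hB : WC (S : Subgroup G) B)
    (hle : B ≤ QL (S : Subgroup G) Y L) : L ≤ normalizer (B : Set G) := by
  intro l hl
  rw [mem_normalizer_iff_cj]
  refine hB.eq l ?_
  have h1 := cj_mono l hle
  have h2 : cj l (QL (S : Subgroup G) Y L) = QL (S : Subgroup G) Y L := cj_eq_of_mem_normalizer (h.cs hl)
  rw [h2] at h1
  exact h1.trans inf_le_left

/-- **The frame exists.** -/
theorem exists_locY (hG : IsCharacteristicTwoType G) (hne : zc (S : Subgroup G) ≠ ⊥) (h : Stage S Y M)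
    (hsd : Seed S Y M) : ∃ B, LocY S Y M B := by
  obtain ⟨B, a, hmax⟩ := Set.exists_max_image {B : Subgroup G | Adm S Y M B}
    (fun B => Nat.card (VB Y B)) (Set.toFinite _) ⟨_, h.adm hG hne⟩
  have hle := L_le_norm h.toRoot a.wc a.le
  exact ⟨B, a, fun B' a' => hmax B' a', hle, hsd.mono hle⟩

namespace LocY

/-- **The frame is a member of the chain.** -/
theorem stage (g : LocY S Y M B) : Stage S Y (normalizer (B : Set G)) where
  le := wc_S_le g.adm.wc
  ZY := g.adm.ZY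
  comm := g.adm.comm
  sq := g.adm.sq
  nff := g.adm.nff
  cs := by
    have h := g.adm.cs
    rw [VB] at h
    rw [h]
  low := g.adm.low

theorem QL_eq (g : LocY S Y M B) : QL (S : Subgroup G) Y (normalizer (B : Set G)) = B := g.adm.cs

/-- `WH S Y L = B` -/
theorem WH_eq (g : LocY S Y M B) : WH (S : Subgroup G) Y (normalizer (B : Set G)) = B :=
  le_antisymm ((WH_le _ _ _).trans g.QL_eq.le) (le_WH g.adm.wc g.QL_eq.ge)

/-- `ML S Y L = L` -/
theorem ML_eq (g : LocY S Y M B) : ML (S : Subgroup G) Y (normalizer (B : Set G)) = normalizer (B : Set G) := by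
  rw [ML, g.WH_eq]

/-- `VL S Y L = V` -/
theorem VL_eq (g : LocY S Y M B) : VL (S : Subgroup G) Y (normalizer (B : Set G)) = VB Y B := by
  rw [VL, g.ML_eq, VB]

/-- `nx S Y L X = ⟨L, X⟩` -/
theorem nx_eq (g : LocY S Y M B) (X : Subgroup G) :
    nx (S : Subgroup G) Y (normalizer (B : Set G)) X = normalizer (B : Set G) ⊔ X := by
  rw [nx, g.ML_eq]

/-- A root `L' ≥ M` with `V(L')` low is admissible. -/
theorem adm_of_root {L : Subgroup G} (h : Root S Y L) (hML : M ≤ L)
    (low : VL (S : Subgroup G) Y L ≤ o2 (centralizer (zc (S : Subgroup G) : Set G))) :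
    Adm S Y M (WH (S : Subgroup G) Y L) where
  ZY := h.ZY
  wc := wc_WH _ _ _
  le := (WH_le _ _ _).trans (inf_le_inf_left _ (centralizer_le (cl_mono _ hML)))
  cs := h.cs_V
  comm := h.V_comm
  sq := h.V_sq
  nff := h.V_nff
  low := low

/-- **Maximality of `|V|`.** -/
theorem le_of_root (g : LocY S Y M B) {L : Subgroup G} (h : Root S Y L) (hML : M ≤ L)
    (low : VL (S : Subgroup G) Y L ≤ o2 (centralizer (zc (S : Subgroup G) : Set G))) :
    Nat.card (VL (S : Subgroup G) Y L) ≤ Nat.card (VB Y B) :=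
  g.max _ (adm_of_root h hML low)

/-- Maximality of `V`. -/
theorem VL_eq_of_root (g : LocY S Y M B) {L : Subgroup G} (h : Root S Y L) (hML : M ≤ L)
    (low : VL (S : Subgroup G) Y L ≤ o2 (centralizer (zc (S : Subgroup G) : Set G)))
    (hV : VB Y B ≤ VL (S : Subgroup G) Y L) : VL (S : Subgroup G) Y L = VB Y B :=
  (eq_of_le_of_card_ge hV (g.le_of_root h hML low)).symm

theorem lines (g : LocY S Y M B) : Lines S B (VB Y B) := g.adm.lines

/-- **There is no step from `L`.** -/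
theorem no_step (g : LocY S Y M B) (hG : IsCharacteristicTwoType G) (hne : zc (S : Subgroup G) ≠ ⊥)
    (F T X : Subgroup G) : ¬ Step S Y (normalizer (B : Set G)) F T X := by
  intro s
  have h1 : Stage S Y (nx (S : Subgroup G) Y (normalizer (B : Set G)) X) :=
    s.next g.stage.toRoot (g.stage.lines hG hne)
  have h2 := s.lt h1.toRoot
  have h3 : M ≤ nx (S : Subgroup G) Y (normalizer (B : Set G)) X := by
    refine le_trans ?_ le_sup_left
    rw [g.ML_eq]
    exact g.le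
  have h4 := g.le_of_root h1.toRoot h3 (h1.low_V hG hne)
  rw [g.VL_eq] at h2
  exact h2.ne (eq_of_le_of_card_ge h2.le h4)

/-- **LEMMA OZ**'s frame -/
theorem oz (g : LocY S Y M B) : OZ S Y B (VB Y B) where
  lines := g.adm.lines
  cs := g.adm.cs
  eq := rfl
  zZ := g.adm.ZY
  max := fun B' hle hwc hcs hcm hsq hnf hlow hV => by
    have a : Adm S Y M B' := ⟨g.adm.ZY, hwc, hle.trans g.adm.le, hcs, hcm, hsq, hnf, hlow⟩
    exact (eq_of_le_of_card_ge hV (g.max B' a)).ge

/-- **Maximality for a group `J ≥ L`** with `C_S(V_J)` normal in `J`: if `V_J = ⟨Y^J⟩` is not FF and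
`V_J ≤ O₂(C_G(Z))` then `J ≤ N_G(V)`. -/
theorem le_normalizer_of_stage (g : LocY S Y M B) (hG : IsCharacteristicTwoType G)
    (hne : zc (S : Subgroup G) ≠ ⊥) {J : Subgroup G} (hJ : Stage S Y J)
    (hLJ : normalizer (B : Set G) ≤ J) : J ≤ normalizer (VB Y B : Set G) := by
  have hV : VB Y B ≤ VL (S : Subgroup G) Y J := (cl_mono Y hLJ).trans hJ.cl_le_V
  have h1 := g.VL_eq_of_root hJ.toRoot (g.le.trans hLJ) (hJ.low_V hG hne) hV
  rw [← h1]
  exact hJ.L_le.trans (ML_le_norm_V _ _ _)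

/-- `⟨L, C_G(Z)⟩` is nonlocal. -/
theorem nonLoc (g : LocY S Y M B) (hn : NonLoc M (CZ (S : Subgroup G))) :
    NonLoc (normalizer (B : Set G)) (CZ (S : Subgroup G)) :=
  fun U hU h1 h2 => hn U hU (g.le.trans h1) h2

/-- `C_G(Z)` does not normalise `V`. -/
theorem nz (g : LocY S Y M B) (hne : zc (S : Subgroup G) ≠ ⊥) (hn : NonLoc M (CZ (S : Subgroup G))) :
    ¬ centralizer (zc (S : Subgroup G) : Set G) ≤ normalizer (VB Y B : Set G) := by
  have h1 := Root.nle g.stage.toRoot g.le hn hne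
  rwa [g.VL_eq] at h1

/-- The panels exist. -/
theorem exists_panel (g : LocY S Y M B) (hG : IsCharacteristicTwoType G) (hne : zc (S : Subgroup G) ≠ ⊥)
    (hn : NonLoc M (CZ (S : Subgroup G))) :
    ∃ F T X, Fl S (VB Y B) F T ∧ zc (S : Subgroup G) ≤ F ∧ Par (VB Y B) F T X := by
  have h1 := g.stage.exists_panel hG hne (Root.nle g.stage.toRoot g.le hn hne)
  rwa [g.VL_eq] at h1

/-- At a panel `V_H` is FF or not in `O₂(C_G(Z))`. -/
theorem or_of_panel (g : LocY S Y M B) (hG : IsCharacteristicTwoType G) (hne : zc (S : Subgroup G) ≠ ⊥)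
    {F T X : Subgroup G} (f : Fl S (VL (S : Subgroup G) Y (normalizer (B : Set G))) F T)
    (hZ : zc (S : Subgroup G) ≤ F) (p : Par (VL (S : Subgroup G) Y (normalizer (B : Set G))) F T X) :
    ¬ NotFF (cl Y (nx (S : Subgroup G) Y (normalizer (B : Set G)) X)) ∨
      ¬ cl Y (nx (S : Subgroup G) Y (normalizer (B : Set G)) X) ≤
        o2 (centralizer (zc (S : Subgroup G) : Set G)) :=
  last_or hG hne g.seed g.stage (g.no_step hG hne) f hZ p

/-- **`V_H` is FF for every panel.** -/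
theorem last_ff (g : LocY S Y M B) (hG : IsCharacteristicTwoType G) (hne : zc (S : Subgroup G) ≠ ⊥)
    {F T X : Subgroup G} (f : Fl S (VL (S : Subgroup G) Y (normalizer (B : Set G))) F T)
    (hZ : zc (S : Subgroup G) ≤ F) (p : Par (VL (S : Subgroup G) Y (normalizer (B : Set G))) F T X) :
    ¬ NotFF (cl Y (nx (S : Subgroup G) Y (normalizer (B : Set G)) X)) :=
  Seed.last_ff g.stage g.seed hG hne f hZ p (g.or_of_panel hG hne f hZ p)

/-- `B` is minimal admissible. -/
theorem min (g : LocY S Y M B) (B' : Subgroup G) (a' : Adm S Y M B') (hle : B' ≤ B) : B' = B := by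
  have h1 : normalizer (B : Set G) ≤ normalizer (B' : Set G) := by
    intro x hx
    rw [mem_normalizer_iff_cj]
    refine a'.wc.eq x ?_
    have h2 := cj_mono x hle
    rw [cj_eq_of_mem_normalizer hx] at h2
    exact h2.trans g.adm.wc.le
  have h2 : VB Y B = VB Y B' := eq_of_le_of_card_ge (cl_mono _ h1) (g.max B' a')
  rw [← a'.cs, ← g.adm.cs, h2]

/-- Every panel is local. -/
theorem loc (g : LocY S Y M B) (hG : IsCharacteristicTwoType G) {F T X : Subgroup G} (f : Fl S (VB Y B) F T)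
    (hZ : zc (S : Subgroup G) ≤ F) (p : Par (VB Y B) F T X) :
    ∃ R : Subgroup G, R ≠ ⊥ ∧ IsPGroup 2 R ∧ normalizer (B : Set G) ⊔ X ≤ normalizer (R : Set G) := by
  obtain ⟨R, h1, h2, h3, h4⟩ := NO3b.AlphaEnd.exists_loc f g.adm.lines FFBr.aStmt FFBr.ffthm hG hZ p
  rw [g.adm.cs] at h3
  exact ⟨R, h1, h2, sup_le h3 h4⟩

/-- The frame `Fr` for a panel. -/
theorem fr (g : LocY S Y M B) (hG : IsCharacteristicTwoType G) (hne : zc (S : Subgroup G) ≠ ⊥)
    {F T X : Subgroup G} (f : Fl S (VB Y B) F T) (hZ : zc (S : Subgroup G) ≤ F) (p : Par (VB Y B) F T X) :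
    Fr S Y B (normalizer (B : Set G) ⊔ X) X T := by
  rw [← g.VL_eq] at f p
  have h1 := g.stage.fr g.seed hG hne f hZ p
  rwa [g.WH_eq, g.nx_eq] at h1

/-- **(C2)**: two noncentral chief factors of `X` in `⟨V^X⟩`. -/
theorem two (g : LocY S Y M B) (hG : IsCharacteristicTwoType G) (hne : zc (S : Subgroup G) ≠ ⊥)
    {F T X : Subgroup G} (f : Fl S (VB Y B) F T) (hZ : zc (S : Subgroup G) ≤ F) (p : Par (VB Y B) F T X) :
    K0.Mix.Two (VB Y B) X := by
  rw [← g.VL_eq] at f p ⊢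
  exact g.stage.two g.seed hG hne f hZ p (g.or_of_panel hG hne f hZ p)

/-- **`V_H` is FF**, `H = ⟨N_G(B), X⟩`. -/
theorem ff (g : LocY S Y M B) (hG : IsCharacteristicTwoType G) (hne : zc (S : Subgroup G) ≠ ⊥)
    {F T X : Subgroup G} (f : Fl S (VB Y B) F T) (hZ : zc (S : Subgroup G) ≤ F) (p : Par (VB Y B) F T X) :
    ¬ NotFF (cl Y (normalizer (B : Set G) ⊔ X)) := by
  rw [← g.VL_eq] at f p
  have h1 := g.last_ff hG hne f hZ p
  rwa [g.nx_eq] at h1

/-- **(RED)** -/
theorem red (g : LocY S Y M B) {U H : Subgroup G} (hN : H ≤ normalizer (U : Set G))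
    (hU : U ≤ centralizer (U : Set G)) (hG : IsCharacteristicTwoType G) (hK : Core (S : Subgroup G) Y)
    (hpar : ∀ R, IsParS (S : Subgroup G) R → R ≤ M) (hM : normalizer (B : Set G) ≤ H) (hVU : VB Y B ≤ U) :
    Red (im hN (normalizer (B : Set G))) (ad hU (VB Y B)) := by
  have h1 := Seed.red hN hU g.stage.toRoot hG hK (fun R hR => by rw [g.ML_eq]; exact (hpar R hR).trans g.le)
    (by rw [g.ML_eq]; exact hM) (by rw [g.VL_eq]; exact hVU)
  rwa [g.ML_eq, g.VL_eq] at h1

end LocY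

end Cfsg.Agent.Omega.NO3b.Seed

end

section


/-!
# The maximal admissible frame for the case (G) of the cut of GammaFF

`CaseG S P`, `Q = O₂(P)`, `X₀ = Ω₁(Z(Q))`, `M₀ = N_G(Q) ≥ P'` for all `P' ∈ P*(S)`.

* `CaseG.stage_M0`, `CaseG.seed_M0` : `Stage S X₀ M₀`, `Seed S X₀ M₀`;
* `CaseG.exists_locY` : `LocY S X₀ M₀ B` for some `B` (`Seed/Max.lean`).
-/

set_option autoImplicit false
set_option linter.unusedSectionVars false

namespace Cfsg.Agent.Omega.NO3S.Level

open Subgroup Cfsg Cfsg.Agent.ZN Cfsg.Agent.ZN.ChoiceBase Cfsg.Agent.Omega.MinPar Cfsg.Agent.Omega.Frame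
open Cfsg.Agent.Omega.FrameNOFF (CZ)
open Cfsg.Agent.Omega.NO3b.EZero (cl le_cl cj_le_cl cl_le le_normalizer_cl cent_symm)
open Cfsg.Agent.Omega.NO3b

universe u

variable {G : Type u} [Group G] [Finite G] {S : Sylow 2 G} {P : Subgroup G}

namespace CaseG

variable (h : CaseG S P)
include h

theorem cl_M0 : cl (zc (o2 P)) (M0 (S : Subgroup G)) = zc (o2 P) := by
  rw [h.M0_eq]
  exact Seed.cl_eq (MinSimple.VModule.normalizer_le_normalizer_zc _)

/-- `Stage S X₀ M₀` -/
theorem stage_M0 : Seed.Stage S (zc (o2 P)) (M0 (S : Subgroup G)) where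
  le := h.pss.par.isLoc.le.trans (Level.par_le h.pss.par)
  ZY := h.seed.ZY
  comm := by rw [h.cl_M0, ← h.X0_eq]; exact X0_comm _
  sq := by rw [h.cl_M0, ← h.X0_eq]; exact X0_sq _
  nff := by rw [h.cl_M0]; exact h.nffY
  cs := by rw [h.cl_M0, h.cs, h.M0_eq]
  low := by rw [h.cl_M0]; exact h.linesG.low

theorem seed_M0 : Seed.Seed S (zc (o2 P)) (M0 (S : Subgroup G)) := h.seed.mono (Level.par_le h.pss.par)

/-- **The maximal admissible frame** of the case (G). -/
theorem exists_locY : ∃ B, Seed.LocY S (zc (o2 P)) (M0 (S : Subgroup G)) B :=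
  Seed.exists_locY h.ctx.char2 h.zc_ne h.stage_M0 h.seed_M0

end CaseG

end Cfsg.Agent.Omega.NO3S.Level

end
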