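import Cfsg.Agent.Mrg.Omega.NO3b.Seed.Alt
import Cfsg.Agent.Mrg.Omega.NO3b.Chain.Frame
import Cfsg.Agent.Mrg.Omega.NO3b.Exit.TwoFac
import Cfsg.Agent.Mrg.Omega.NO3b.Closed.CountB
import Cfsg.Agent.Mrg.Omega.NO3b.Exit.LocalExit

section


/-!
# NotFF (c), local exit: the chain frame with a seed `Y` (#20856 (1); helper235's `Chain/Frame.lean`)

`S` a Sylow 2-subgroup, `W(L) = WH S Y L`, `M(L) = ML S Y L`, `V(L) = VL S Y L = ⟨Y^{M(L)}⟩` (`Seed/Frame.lean`).

* `Seed S Y P` : `Ω₁(Z(S)) ≤ Y` and `Y ≤ Ω₁(Z(O₂(H)))` for every local `H ≥ P`; `seed_of` : `Y = Ω₁(Z(O₂(P)))`;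
* `Stage S Y L` : `Root S Y L` and `⟨Y^L⟩ ≤ O₂(C_G(Z))`, `Z = Ω₁(Z(S))`; `Stage.lines`;
* `Step S Y L F T X` : a panel `(F, T, X)` of `V(L)`, `Z ≤ F`, such that `L' = ⟨M(L), X⟩` is local, `⟨Y^{L'}⟩` is not
  FF and lies in `O₂(C_G(Z))`; `nx S Y L X` is `L'`; `Step.next` : `Stage S Y L'`; `Step.lt` : `V(L) < V(L')`;
* `Reach S Y P L` : `L` is reached from `P`; `Reach.stage`, `Reach.le`, `Reach.ML_le`;
* `exists_last` : some `L` reached from `P` has no step; `last_or`.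
-/

set_option autoImplicit false
set_option linter.unusedSectionVars false
set_option linter.dupNamespace false

namespace Cfsg.Agent.Omega.NO3b.Seed

open Subgroup Cfsg
open Cfsg.Agent.ZN (o2 zc zl jj zj)
open Cfsg.Agent.ZN.ChoiceBase hiding mem_zc
open Cfsg.Agent.ZN.ChoiceSit (Syl o2_le_syl syl_not_dvd)
open Cfsg.Agent.MinSimple.EmptyTI (syl_of_le)
open Cfsg.Agent.Omega.MinPar Cfsg.Agent.Omega.Frame Cfsg.Agent.Omega.FrameNOFF
open Cfsg.Agent.Omega.NO3b.EZero (NotFF Par oddGen_sup_syl cl le_cl cj_le_cl cl_le le_normalizer_cl)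
open Cfsg.Agent.Omega.NO3b.Alpha (Fl)
open Cfsg.Agent.Omega.NO3b.NoEmp (Lines)
open Cfsg.Agent.Omega.NO3b.Wc (WC StmtOff)
open Cfsg.Agent.Omega.NO3b.Chain (le_normalizer_inf le_normalizer_centralizer)
open Cfsg.Agent.MinSimple.VModule (oddGen zc_comm zc_sq le_normalizer_o2 normalizer_le_normalizer_zc)

universe u

section

variable {G : Type u} [Group G]

/-- `L' = ⟨M(L), X⟩` -/
def nx (S Y L X : Subgroup G) : Subgroup G := ML S Y L ⊔ X

variable [Finite G]

/-- The seed: `Z ≤ Y` and `Y ≤ Ω₁(Z(O₂(H)))` for all local `H ≥ P`. -/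
structure Seed (S : Sylow 2 G) (Y P : Subgroup G) : Prop where
  ZY : zc (S : Subgroup G) ≤ Y
  le : ∀ H : Subgroup G, IsLoc (S : Subgroup G) H → P ≤ H → Y ≤ zc (o2 H)

variable {S : Sylow 2 G} {Y P L F T X : Subgroup G}

theorem Seed.mono (h : Seed S Y P) (hPL : P ≤ L) : Seed S Y L := ⟨h.ZY, fun H hH hL => h.le H hH (hPL.trans hL)⟩

/-- `⟨Y^H⟩ ≤ Ω₁(Z(O₂(H)))` -/
theorem Seed.cl_le (h : Seed S Y P) {H : Subgroup G} (hH : IsLoc (S : Subgroup G) H) (hP : P ≤ H) :
    cl Y H ≤ zc (o2 H) :=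
  cl_le' (h.le H hH hP) ((le_normalizer_o2 H).trans (normalizer_le_normalizer_zc _))

/-- **The seed `Ω₁(Z(O₂(P)))`.** -/
theorem seed_of (hc : IsCharacteristicTwoType G) (hP : IsLoc (S : Subgroup G) P) : Seed S (zc (o2 P)) P where
  ZY := (MinSimple.VModule.zc_le_zl _ _).trans (hP.zl_le S hc)
  le := fun H hH hPH => by
    have h1 : o2 H ≤ o2 P := o2_le_o2 S hP.le hPH
    have h2 : zc (o2 P) ≤ centralizer (o2 H : Set G) := fun x hx => mem_centralizer_iff.2 fun y hy =>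
      (MinSimple.VModule.mem_zc.1 hx).2.1 y (h1 hy)
    have h3 : zc (o2 P) ≤ o2 H :=
      (le_inf (((ZN.zc_le _).trans (hP.o2_le S)).trans hH.le) h2).trans (hH.char2 S hc)
    exact fun x hx => MinSimple.VModule.mem_zc.2 ⟨h3 hx, fun y hy => (MinSimple.VModule.mem_zc.1 hx).2.1 y (h1 hy),
      (MinSimple.VModule.mem_zc.1 hx).2.2⟩

/-- A member of the chain. -/
structure Stage (S : Sylow 2 G) (Y L : Subgroup G) : Prop extends Root S Y L where
  low : cl Y L ≤ o2 (centralizer (zc (S : Subgroup G) : Set G))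

/-- A panel of `V(L)` which gives a step of the chain. -/
structure Step (S : Sylow 2 G) (Y L F T X : Subgroup G) : Prop where
  fl : Fl S (VL (S : Subgroup G) Y L) F T
  zF : zc (S : Subgroup G) ≤ F
  par : Par (VL (S : Subgroup G) Y L) F T X
  loc : ∃ R : Subgroup G, R ≠ ⊥ ∧ IsPGroup 2 R ∧ ML (S : Subgroup G) Y L ≤ normalizer (R : Set G) ∧
    X ≤ normalizer (R : Set G)
  nff : NotFF (cl Y (nx (S : Subgroup G) Y L X))
  low : cl Y (nx (S : Subgroup G) Y L X) ≤ o2 (centralizer (zc (S : Subgroup G) : Set G))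
  Yz : Y ≤ zc (o2 (nx (S : Subgroup G) Y L X))

/-- `L` is reached from `P`. -/
inductive Reach (S : Sylow 2 G) (Y P : Subgroup G) : Subgroup G → Prop
  | base : Reach S Y P P
  | step {L F T X : Subgroup G} : Reach S Y P L → Step S Y L F T X → Reach S Y P (nx (S : Subgroup G) Y L X)

/-- The frame of `NoEmp.lean` at a member of the chain. -/
theorem Stage.lines (h : Stage S Y L) (hc : IsCharacteristicTwoType G) (hne : zc (S : Subgroup G) ≠ ⊥) :
    Lines S (WH (S : Subgroup G) Y L) (VL (S : Subgroup G) Y L) :=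
  h.toRoot.lines' hc (Final.stmtOff G) h.low hne

/-- `V(L) ≤ O₂(C_G(D))` for `1 ≠ D ≤ V(L)`. -/
theorem Stage.good (h : Stage S Y L) (hc : IsCharacteristicTwoType G) {D : Subgroup G}
    (hD : D ≤ VL (S : Subgroup G) Y L) (hD1 : D ≠ ⊥) :
    VL (S : Subgroup G) Y L ≤ o2 (centralizer (D : Set G)) :=
  h.toRoot.good hc (Final.stmtOff G) h.low hD hD1

/-- (K0) Every panel of `V(L)`, `Z ≤ F`, is local. -/
theorem Stage.loc (h : Stage S Y L) (hc : IsCharacteristicTwoType G) (hne : zc (S : Subgroup G) ≠ ⊥)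
    (f : Fl S (VL (S : Subgroup G) Y L) F T) (hZ : zc (S : Subgroup G) ≤ F)
    (p : Par (VL (S : Subgroup G) Y L) F T X) :
    ∃ R : Subgroup G, R ≠ ⊥ ∧ IsPGroup 2 R ∧ ML (S : Subgroup G) Y L ≤ normalizer (R : Set G) ∧
      X ≤ normalizer (R : Set G) := by
  have h1 := AlphaEnd.exists_loc f (h.lines hc hne) FFBr.aStmt FFBr.ffthm hc hZ p
  rwa [h.toRoot.cs_V] at h1

/-- The panels of `V(L)` exist. -/
theorem Stage.exists_panel (h : Stage S Y L) (hc : IsCharacteristicTwoType G) (hne : zc (S : Subgroup G) ≠ ⊥)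
    (hnz : ¬ centralizer (zc (S : Subgroup G) : Set G) ≤ normalizer (VL (S : Subgroup G) Y L : Set G)) :
    ∃ F T X, Fl S (VL (S : Subgroup G) Y L) F T ∧ zc (S : Subgroup G) ≤ F ∧
      Par (VL (S : Subgroup G) Y L) F T X := by
  obtain ⟨F, T, f, hZ⟩ := Alpha.exists_fl_zc (h.lines hc hne) hnz
  obtain ⟨X, p⟩ := f.exists_par
  exact ⟨F, T, X, f, hZ, p⟩

/-- `C_G(Z)` does not normalise `V(L)`. -/
theorem Root.nle (h : Root S Y L) (hPL : P ≤ L) (hn : NonLoc P (CZ (S : Subgroup G)))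
    (hne : zc (S : Subgroup G) ≠ ⊥) :
    ¬ centralizer (zc (S : Subgroup G) : Set G) ≤ normalizer (VL (S : Subgroup G) Y L : Set G) := by
  intro h0
  have h1 := hn (VL (S : Subgroup G) Y L) h.V_two ((hPL.trans h.L_le).trans (ML_le_norm_V _ _ _)) h0
  exact hne (le_bot_iff.1 (h.zc_le_V.trans h1.le))

namespace Step

variable (s : Step S Y L F T X)
include s

theorem isLoc (h : Root S Y L) : IsLoc (S : Subgroup G) (nx (S : Subgroup G) Y L X) := by
  obtain ⟨R, hR, hR2, h1, h2⟩ := s.loc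
  exact isLoc_of_le_normalizer S (h.S_le.trans le_sup_left) hR2 hR (sup_le h1 h2)

/-- (MIN) -/
theorem min_or (l : Lines S (WH (S : Subgroup G) Y L) (VL (S : Subgroup G) Y L)) {K : Subgroup G} (hK : K ≤ X)
    (hKn : X ≤ normalizer (K : Set G)) : oddGen X ≤ K ∨ T ⊓ K ≤ o2 X :=
  K0.min_or (s.fl.sylX s.par) (s.fl.isMinPar l s.par) hK hKn

/-- `O²(X)` does not normalise `V(L)`. -/
theorem oddGen_nle (h : Root S Y L) : ¬ oddGen X ≤ normalizer (VL (S : Subgroup G) Y L : Set G) := by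
  intro h0
  apply s.par.nle
  rw [← oddGen_sup_syl (s.fl.sylX s.par)]
  exact sup_le h0 (s.fl.T_le.trans (h.S_le.trans (ML_le_norm_V _ _ _)))

omit s [Finite G] in
theorem ML_le : ML (S : Subgroup G) Y L ≤ nx (S : Subgroup G) Y L X := le_sup_left

omit s [Finite G] in
theorem X_le : X ≤ nx (S : Subgroup G) Y L X := le_sup_right

omit s [Finite G] in
/-- `V(L) ≤ ⟨Y^{L'}⟩` -/
theorem V_le : VL (S : Subgroup G) Y L ≤ cl Y (nx (S : Subgroup G) Y L X) := cl_mono _ ML_le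

/-- `W(L) ≤ T` -/
theorem WH_le (h : Root S Y L) : WH (S : Subgroup G) Y L ≤ T := by
  rw [← h.cs_V]
  exact s.fl.Q0_le

omit s in
/-- `C_S(⟨Y^{L'}⟩)` in terms of `W(L)`. -/
theorem cs_eq (h : Root S Y L) :
    (S : Subgroup G) ⊓ centralizer (cl Y (nx (S : Subgroup G) Y L X) : Set G) =
      WH (S : Subgroup G) Y L ⊓ centralizer (cl Y (nx (S : Subgroup G) Y L X) : Set G) :=
  le_antisymm (le_inf ((inf_le_inf_left _ (centralizer_le (V_le (X := X)))).trans h.cs_V.le) inf_le_right)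
    (inf_le_inf_right _ (WH_le_S _ _ _))

/-- `C_S(⟨Y^{L'}⟩)` in terms of `O₂(X)`. -/
theorem cs_eq' (h : Root S Y L) (l : Lines S (WH (S : Subgroup G) Y L) (VL (S : Subgroup G) Y L)) :
    (S : Subgroup G) ⊓ centralizer (cl Y (nx (S : Subgroup G) Y L X) : Set G) =
      o2 X ⊓ centralizer (cl Y (nx (S : Subgroup G) Y L X) : Set G) := by
  have hX : X ≤ normalizer (cl Y (nx (S : Subgroup G) Y L X) : Set G) :=
    X_le.trans (le_normalizer_cl _ _)
  apply le_antisymm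
  · refine le_inf ?_ inf_le_right
    rcases s.min_or l (K := X ⊓ centralizer (cl Y (nx (S : Subgroup G) Y L X) : Set G)) inf_le_left
      (le_normalizer_inf Subgroup.le_normalizer (le_normalizer_centralizer hX)) with h1 | h1
    · exfalso
      apply s.oddGen_nle h
      exact ((h1.trans inf_le_right).trans (centralizer_le V_le)).trans (centralizer_le_normalizer _)
    · rw [cs_eq h]
      exact (le_inf (inf_le_left.trans (s.WH_le h)) (le_inf ((inf_le_left.trans (s.WH_le h)).trans s.par.T_le)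
        inf_le_right)).trans h1
  · exact inf_le_inf_right _ ((o2_le_syl (s.fl.sylX s.par)).trans s.fl.T_le)

/-- **The next member.** -/
theorem next (h : Root S Y L)
    (l : Lines S (WH (S : Subgroup G) Y L) (VL (S : Subgroup G) Y L)) : Stage S Y (nx (S : Subgroup G) Y L X) := by
  have hz : cl Y (nx (S : Subgroup G) Y L X) ≤ zc (o2 (nx (S : Subgroup G) Y L X)) :=
    cl_le' s.Yz ((le_normalizer_o2 _).trans (normalizer_le_normalizer_zc _))
  refine { le := h.S_le.trans le_sup_left, ZY := h.ZY, comm := ?_, sq := fun v hv => zc_sq _ v (hz hv),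
           nff := s.nff, cs := sup_le ?_ ?_, low := s.low }
  · intro x hx
    rw [mem_centralizer_iff]
    intro y hy
    exact zc_comm _ _ (hz hy) _ (hz hx)
  · rw [cs_eq h]
    exact le_normalizer_inf le_rfl (le_normalizer_centralizer (ML_le.trans (le_normalizer_cl _ _)))
  · rw [s.cs_eq' h l]
    exact le_normalizer_inf (le_normalizer_o2 X) (le_normalizer_centralizer (X_le.trans (le_normalizer_cl _ _)))

omit s in
/-- `M(L) ≤ M(L')` -/
theorem ML_le_ML (h' : Root S Y (nx (S : Subgroup G) Y L X)) :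
    ML (S : Subgroup G) Y L ≤ ML (S : Subgroup G) Y (nx (S : Subgroup G) Y L X) := ML_le.trans h'.L_le

/-- `V(L) < V(L')` -/
theorem lt (h' : Root S Y (nx (S : Subgroup G) Y L X)) :
    VL (S : Subgroup G) Y L < VL (S : Subgroup G) Y (nx (S : Subgroup G) Y L X) := by
  refine lt_of_le_of_ne (V_le.trans h'.cl_le_V) fun h1 => s.par.nle ?_
  rw [h1]
  exact (X_le.trans h'.L_le).trans (ML_le_norm_V _ _ _)

/-- `W(L') < W(L)` -/
theorem WH_lt (h : Root S Y L) (h' : Root S Y (nx (S : Subgroup G) Y L X)) :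
    WH (S : Subgroup G) Y (nx (S : Subgroup G) Y L X) < WH (S : Subgroup G) Y L := by
  have h1 : WH (S : Subgroup G) Y (nx (S : Subgroup G) Y L X) ≤ WH (S : Subgroup G) Y L := by
    rw [← h.cs_V, ← h'.cs_V]
    exact inf_le_inf_left _ (centralizer_le (s.lt h').le)
  refine lt_of_le_of_ne h1 fun he => (s.lt h').ne ?_
  rw [VL, VL, ML, ML, he]

end Step

theorem Reach.stage (hc : IsCharacteristicTwoType G) (hne : zc (S : Subgroup G) ≠ ⊥) (hP : Stage S Y P)
    (r : Reach S Y P L) : Stage S Y L := by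
  induction r with
  | base => exact hP
  | step _ s ih => exact s.next ih.toRoot (ih.lines hc hne)

theorem Reach.trans {L' : Subgroup G} (r : Reach S Y P L) (r' : Reach S Y L L') : Reach S Y P L' := by
  induction r' with
  | base => exact r
  | step _ s ih => exact ih.step s

/-- `P ≤ L` -/
theorem Reach.le (hc : IsCharacteristicTwoType G) (hne : zc (S : Subgroup G) ≠ ⊥) (hP : Stage S Y P)
    (r : Reach S Y P L) : P ≤ L := by
  induction r with
  | base => exact le_rfl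
  | step r s ih => exact ih.trans ((r.stage hc hne hP).L_le.trans Step.ML_le)

theorem Reach.seed (hc : IsCharacteristicTwoType G) (hne : zc (S : Subgroup G) ≠ ⊥) (hP : Stage S Y P)
    (r : Reach S Y P L) (hsd : Seed S Y P) : Seed S Y L := hsd.mono (r.le hc hne hP)

/-- `M(P) ≤ M(L)` -/
theorem Reach.ML_le (hc : IsCharacteristicTwoType G) (hne : zc (S : Subgroup G) ≠ ⊥) (hP : Stage S Y P)
    (r : Reach S Y P L) : ML (S : Subgroup G) Y P ≤ ML (S : Subgroup G) Y L := by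
  induction r with
  | base => exact le_rfl
  | step r s ih => exact ih.trans (Step.ML_le_ML ((r.step s).stage hc hne hP).toRoot)

/-- `V(P) ≤ V(L)` -/
theorem Reach.V_le (hc : IsCharacteristicTwoType G) (hne : zc (S : Subgroup G) ≠ ⊥) (hP : Stage S Y P)
    (r : Reach S Y P L) : VL (S : Subgroup G) Y P ≤ VL (S : Subgroup G) Y L := by
  induction r with
  | base => exact le_rfl
  | step r s ih => exact ih.trans (s.lt ((r.step s).stage hc hne hP).toRoot).le

/-- **The last member of the chain.** -/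
theorem exists_last (hc : IsCharacteristicTwoType G) (hne : zc (S : Subgroup G) ≠ ⊥) (hP : Stage S Y P)
    : ∃ L, Reach S Y P L ∧ ∀ F T X, ¬ Step S Y L F T X := by
  obtain ⟨L, hL, hmax⟩ := Set.exists_max_image {L : Subgroup G | Reach S Y P L}
    (fun L => Nat.card (VL (S : Subgroup G) Y L)) (Set.toFinite _) ⟨P, Reach.base⟩
  refine ⟨L, hL, fun F T X s => ?_⟩
  have h1 := s.lt ((Reach.step hL s).stage hc hne hP).toRoot
  have h2 := hmax _ (Reach.step hL s)
  exact h1.ne (Subgroup.eq_of_le_of_card_ge h1.le h2)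

/-- At the last member every panel is local and has `⟨Y^{L'}⟩` FF or not in `O₂(C_G(Z))`. -/
theorem last_or (hc : IsCharacteristicTwoType G) (hne : zc (S : Subgroup G) ≠ ⊥) (hsd : Seed S Y L) (h : Stage S Y L)
    (hl : ∀ F T X, ¬ Step S Y L F T X) (f : Fl S (VL (S : Subgroup G) Y L) F T) (hZ : zc (S : Subgroup G) ≤ F)
    (p : Par (VL (S : Subgroup G) Y L) F T X) : ¬ NotFF (cl Y (nx (S : Subgroup G) Y L X)) ∨
      ¬ cl Y (nx (S : Subgroup G) Y L X) ≤ o2 (centralizer (zc (S : Subgroup G) : Set G)) := by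
  by_contra hcon
  push Not at hcon
  obtain ⟨R, hR, hR2, h1, h2⟩ := h.loc hc hne f hZ p
  have h3 : IsLoc (S : Subgroup G) (nx (S : Subgroup G) Y L X) :=
    isLoc_of_le_normalizer S (h.S_le.trans le_sup_left) hR2 hR (sup_le h1 h2)
  exact hl F T X ⟨f, hZ, p, ⟨R, hR, hR2, h1, h2⟩, hcon.1, hcon.2, hsd.le _ h3 (h.L_le.trans Step.ML_le)⟩

end

end Cfsg.Agent.Omega.NO3b.Seed

end

section


/-!
# The local exit with a seed `Y` (#20856 (1); helper25's `Exit/LocalExit.lean`)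

`B` admissible (`Adm S Y L B`), `M = N_G(B)`, `V = VB Y B = ⟨Y^M⟩`, `X` a minimal parabolic over `T`, `B ≤ T ≤ S`,
`X ≤ C_G(Z)`, `X ≰ N_G(V)`, `H = ⟨M, X⟩`, `Y ≤ Ω₁(Z(O₂(H)))` (`Fr`), `V_H = ⟨Y^H⟩`, `U = ⟨V^X⟩`.

* `Fr.gamma` : `V_H` is FF: a best offender `A ≤ B` of `V_H`, `A ≰ O₂(X)`, offends on `U`;
* `Fr.beta` : `V_H` is not FF, `V' ≰ O₂(C_G(Z))` (`V' = VL S Y (LH S Y H) ≥ V_H` the w.c. closure): some `W_F ≤ B`,
  `W_F ≰ O₂(X)`, offends on `U`;
* `Fr.closed` : `V_H` is not FF, `V' ≤ O₂(C_G(Z))`: a smaller admissible `B'`;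
* `Fr.Y_low`, `Fr.Y_le`, `Fr.max_le`, ... : `⟨V^⟨S,X⟩⟩` (`Exit/TwoFac.lean`).
-/

set_option autoImplicit false
set_option linter.unusedSectionVars false

namespace Cfsg.Agent.Omega.NO3b.Seed

open Subgroup Cfsg
open Cfsg.Agent.ZN (o2 zc zl jj zj)
open Cfsg.Agent.ZN.ChoiceBase hiding mem_zc
open Cfsg.Agent.ZN.ChoiceSit (Syl exists_syl syl_conj o2_le_syl syl_not_dvd)
open Cfsg.Agent.MinSimple.EmptyTI (syl_of_le)
open Cfsg.Agent.Omega.NO3b.EZero (NotFF cent_symm cj_cent cj_norm cj_eq_cj_iff cl le_cl cj_le_cl cl_le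
  le_normalizer_cl le_normalizer_inf_cent oddGen_sup_syl isPGroup_Q0)
open Cfsg.Agent.Omega.FFThm (ElemM OffM NoOverM)
open Cfsg.Agent.Omega.NOThreeL.Star (Opt Ok exists_opt ff)
open Cfsg.Agent.Omega.NO3b.Wc (WC StmtOff cj_sSup)
open Cfsg.Agent.Omega.NO3b.Exit (MaxBad WW_cj WW_pgroup wc_S_le frattini offM_of_opt offM_of_max)
open Cfsg.Agent.MinSimple.MinParabolic (IsMinPar)
open Cfsg.Agent.MinSimple.VModule (mem_zc le_centralizer_zc zc_sq le_normalizer_o2 o2_isPGroup le_o2 zc_comm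
  normalizer_le_normalizer_zc o2_le oddGen oddGen_le mem_normalizer_of_map_le)
open Cfsg.Agent.Omega.NOne (Flat.Hyp Flat.Bad Flat.EE Flat.WW)

universe u

variable {G : Type u} [Group G] [Finite G] {S : Sylow 2 G}

/-- `N_G(⟨Y^H⟩) ∩ N_G(C_S(⟨Y^H⟩))` -/
def LH (S Y H : Subgroup G) : Subgroup G :=
  normalizer (cl Y H : Set G) ⊓ normalizer ((S ⊓ centralizer (cl Y H : Set G) : Subgroup G) : Set G)

section big

variable {Y H : Subgroup G} (hS : (S : Subgroup G) ≤ H)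
include hS

theorem S_le_LH : (S : Subgroup G) ≤ LH (S : Subgroup G) Y H := by
  have h1 : (S : Subgroup G) ≤ normalizer (cl Y H : Set G) := hS.trans (le_normalizer_cl _ _)
  refine le_inf h1 fun s hs => ?_
  rw [mem_normalizer_iff_cj, cj_inf, cj_centralizer, mem_normalizer_iff_cj.1 (h1 hs)]
  congr 1
  exact cj_eq_of_mem_normalizer (Subgroup.le_normalizer hs)

/-- `⟨Y^{LH}⟩ = ⟨Y^H⟩` -/
theorem cl_LH : cl Y (LH (S : Subgroup G) Y H) = cl Y H := by
  apply le_antisymm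
  · exact cl_le' (le_cl _ _) inf_le_left
  · refine cl_le' (le_cl _ _) fun x hx => ?_
    have hle : cl Y (LH (S : Subgroup G) Y H) ≤ cl Y H := cl_le' (le_cl _ _) inf_le_left
    have hxV := le_normalizer_cl Y H hx
    obtain ⟨c, hc, hcx⟩ := frattini (hS.trans (le_normalizer_cl _ _)) hxV
    have h1 : c ∈ normalizer (cl Y (LH (S : Subgroup G) Y H) : Set G) :=
      centralizer_le_normalizer _ (centralizer_le hle hc)
    have h2 : c⁻¹ * x ∈ LH (S : Subgroup G) Y H :=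
      ⟨Subgroup.mul_mem _ (Subgroup.inv_mem _ (centralizer_le_normalizer _ hc)) hxV, hcx⟩
    have h3 := Subgroup.mul_mem _ h1 (le_normalizer_cl Y _ h2)
    rwa [mul_inv_cancel_left] at h3

variable (hY : Y ≤ zc (o2 H))
include hY

omit [Finite G] hS in
theorem cl_le_zc : cl Y H ≤ zc (o2 H) := cl_le' hY ((le_normalizer_o2 H).trans (normalizer_le_normalizer_zc _))

omit [Finite G] hS in
theorem cl_cent : cl Y H ≤ centralizer (cl Y H : Set G) := by
  intro x hx
  rw [mem_centralizer_iff]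
  intro y hy
  exact zc_comm _ _ (cl_le_zc hY hy) _ (cl_le_zc hY hx)

omit [Finite G] hS in
theorem cl_sq : ∀ v ∈ cl Y H, v ^ 2 = 1 := fun v hv => zc_sq _ v (cl_le_zc hY hv)

omit [Finite G] hS in
theorem o2_cent : o2 H ≤ centralizer (cl Y H : Set G) :=
  cent_symm ((cl_le_zc hY).trans fun _ hx => mem_centralizer_iff.2 fun y hy => (mem_zc.1 hx).2.1 y hy)

/-- The w.c. frame for `⟨Y^H⟩`, if it is not FF. -/
theorem root_LH (hZ : zc (S : Subgroup G) ≤ Y) (hn : NotFF (cl Y H)) : Root S Y (LH (S : Subgroup G) Y H) where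
  le := S_le_LH hS
  ZY := hZ
  comm := by rw [cl_LH hS]; exact cl_cent hY
  sq := by rw [cl_LH hS]; exact cl_sq hY
  nff := by rw [cl_LH hS]; exact hn
  cs := by rw [cl_LH hS]; exact inf_le_right

end big

/-! ### The frame -/

/-- The local situation. -/
structure Fr (S : Sylow 2 G) (Y B H X T : Subgroup G) : Prop where
  NB : normalizer (B : Set G) ≤ H
  XH : X ≤ H
  gen : H ≤ normalizer (B : Set G) ⊔ X
  char2 : H ⊓ centralizer (o2 H : Set G) ≤ o2 H
  Yz : Y ≤ zc (o2 H)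
  TS : T ≤ (S : Subgroup G)
  BT : B ≤ T
  syl : Syl T X
  mp : IsMinPar T X
  XZ : X ≤ centralizer (zc (S : Subgroup G) : Set G)
  nle : ¬ X ≤ normalizer (VB Y B : Set G)

namespace Fr

variable {Y L B H X T : Subgroup G} (f : Fr S Y B H X T) (a : Adm S Y L B)
include f a

theorem SH : (S : Subgroup G) ≤ H := (wc_S_le a.wc).trans f.NB

omit [Finite G] a in
theorem V_le : VB Y B ≤ cl Y H := cl_mono _ f.NB

omit [Finite G] a in
theorem U_le : cl (VB Y B) X ≤ cl Y H := by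
  refine cl_le fun x hx => ?_
  have h1 := cj_mono x f.V_le
  rwa [cj_eq_of_mem_normalizer (le_normalizer_cl _ _ (f.XH hx))] at h1

theorem TV : T ≤ normalizer (VB Y B : Set G) := f.TS.trans a.lines.S_le

/-- `C_T(U) ≤ O₂(X)` -/
theorem cent_U : T ⊓ centralizer (cl (VB Y B) X : Set G) ≤ o2 X := by
  rcases K0.min_or f.syl f.mp (K := X ⊓ centralizer (cl (VB Y B) X : Set G)) inf_le_left
    (le_normalizer_inf_cent (le_normalizer_cl _ _)) with h1 | h1
  · exfalso
    apply f.nle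
    rw [← oddGen_sup_syl f.syl]
    refine sup_le ?_ (f.TV a)
    exact (h1.trans inf_le_right).trans ((centralizer_le (le_cl _ _)).trans (centralizer_le_normalizer _))
  · exact (le_inf inf_le_left (le_inf (inf_le_left.trans f.syl.1) inf_le_right)).trans h1

/-- `C_S(V_H) ≤ B` -/
theorem cs_le : (S : Subgroup G) ⊓ centralizer (cl Y H : Set G) ≤ B :=
  (inf_le_inf_left _ (centralizer_le f.V_le)).trans a.cs.le

/-- `U ≤ O₂(C_G(Z))` -/
theorem U_low : cl (VB Y B) X ≤ o2 (centralizer (zc (S : Subgroup G) : Set G)) := by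
  refine cl_le fun x hx => ?_
  have h1 := cj_mono x a.low
  rwa [cj_eq_of_mem_normalizer (le_normalizer_o2 _ (f.XZ hx))] at h1

/-- A subgroup `K` of `B`, closed under the fusion of `H` in `S` and inside `O₂(X)`, lies in `O₂(H)`. -/
theorem core {K : Subgroup G} (hKB : K ≤ B) (hcl : ∀ g ∈ H, cj g K ≤ (S : Subgroup G) → cj g K ≤ K)
    (hX : K ≤ o2 X) : K ≤ o2 H := by
  have hKS : K ≤ (S : Subgroup G) := hKB.trans a.wc.le
  refine le_o2 (hKS.trans (f.SH a)) (S.isPGroup'.to_le hKS) (f.gen.trans (sup_le ?_ ?_))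
  · intro m hm
    refine mem_normalizer_of_map_le (hcl m (f.NB hm) ?_)
    have h1 := cj_mono m hKB
    rw [cj_eq_of_mem_normalizer hm] at h1
    exact h1.trans a.wc.le
  · intro x hx
    refine mem_normalizer_of_map_le (hcl x (f.XH hx) ?_)
    have h1 := cj_mono x hX
    rw [cj_eq_of_mem_normalizer (le_normalizer_o2 _ hx)] at h1
    exact h1.trans ((o2_le_syl f.syl).trans f.TS)

/-- the same for a family of subgroups of `S`: a member which is not in `O₂(X)` -/
theorem exists_nle {Fam : Set (Subgroup G)} (hKB : ∀ D ∈ Fam, D ≤ B)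
    (hcl : ∀ g ∈ H, (∀ D ∈ Fam, cj g D ≤ (S : Subgroup G)) → ∀ D ∈ Fam, cj g D ≤ sSup Fam)
    {D₀ : Subgroup G} (hD₀ : D₀ ∈ Fam) (hne : ¬ D₀ ≤ centralizer (cl Y H : Set G)) :
    ∃ D ∈ Fam, ¬ D ≤ o2 X := by
  by_contra hcon
  push Not at hcon
  have h1 := f.core a (K := sSup Fam) (sSup_le hKB) (fun g hg hgS => ?_) (sSup_le hcon)
  · exact hne (((le_sSup hD₀).trans h1).trans (o2_cent f.Yz))
  · rw [cj_sSup]
    exact iSup_le fun D => hcl g hg (fun D hD => (cj_mono g (le_sSup hD)).trans hgS) D D.2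

/-- **(γ)** `V_H` is FF. -/
theorem gamma (hff : ¬ NotFF (cl Y H)) :
    ∃ A, Opt (cl Y H) A ∧ A ≤ B ∧ ¬ A ≤ o2 X ∧ OffM (cl (VB Y B) X) A := by
  have hSH := f.SH a
  have hVc := cl_cent f.Yz
  -- best offenders centralise `V`
  have hAV : ∀ A, Opt (cl Y H) A → A ≤ (S : Subgroup G) → A ≤ B := by
    intro A hA hAS
    refine le_trans (le_inf hAS ?_) a.cs.le
    by_contra hne
    have hoff := offM_of_opt hA hVc f.V_le hne
    have h3 := a.nff A hA.pg (hAS.trans a.lines.S_le) hoff.sq hoff.comm hne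
    exact absurd (FFThm.relIndex_le_iff.1 hoff.le) (not_le.2 h3)
  obtain ⟨A0, hA0⟩ := exists_opt hff
  obtain ⟨n, hn, hnS⟩ := FFThm.exists_conj_le S (hSH.trans (le_normalizer_cl _ _)) hA0.pg hA0.norm
  obtain ⟨D, hD, hDX⟩ := f.exists_nle a
    (Fam := {D | D = (S : Subgroup G) ⊓ centralizer (cl Y H : Set G) ∨
      Opt (cl Y H) D ∧ D ≤ (S : Subgroup G)}) (by
      rintro D (rfl | ⟨h1, h2⟩)
      · exact f.cs_le a
      · exact hAV D h1 h2) (by
      rintro g hg hgS D (rfl | ⟨h1, h2⟩)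
      · refine le_trans (le_inf (hgS _ (Or.inl rfl)) ?_) (le_sSup (Or.inl rfl))
        rw [cj_inf, cj_centralizer, cj_eq_of_mem_normalizer (le_normalizer_cl _ _ hg)]
        exact inf_le_right
      · exact le_sSup (a := cj g D) (Or.inr ⟨h1.cj (le_normalizer_cl _ _ hg), hgS D (Or.inr ⟨h1, h2⟩)⟩))
    (D₀ := cj n A0) (Or.inr ⟨hA0.cj hn, hnS⟩) (hA0.cj hn).ne
  rcases hD with rfl | ⟨h1, h2⟩
  · exfalso
    apply hDX
    refine le_trans (le_inf ((f.cs_le a).trans f.BT) ?_) (f.cent_U a)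
    exact inf_le_right.trans (centralizer_le f.U_le)
  · have h3 := hAV D h1 h2
    refine ⟨D, h1, h3, hDX, offM_of_opt h1 hVc f.U_le fun h0 => ?_⟩
    exact hDX ((le_inf (h3.trans f.BT) h0).trans (f.cent_U a))

/-- `V_H ≤ V'` -/
theorem cl_le_V' (hn : NotFF (cl Y H)) : cl Y H ≤ VL (S : Subgroup G) Y (LH (S : Subgroup G) Y H) := by
  have h1 := (root_LH (f.SH a) f.Yz a.ZY hn).cl_le_V
  rwa [cl_LH (f.SH a)] at h1

/-- `B' ≤ C_S(V_H)` -/
theorem WH_le' : WH (S : Subgroup G) Y (LH (S : Subgroup G) Y H) ≤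
    (S : Subgroup G) ⊓ centralizer (cl Y H : Set G) := by
  have h1 := WH_le (S : Subgroup G) Y (LH (S : Subgroup G) Y H)
  unfold QL at h1
  rwa [cl_LH (f.SH a)] at h1

theorem WH_le_B : WH (S : Subgroup G) Y (LH (S : Subgroup G) Y H) ≤ B := (f.WH_le' a).trans (f.cs_le a)

/-- **(β)** `V_H` is not FF, its w.c. closure `V'` is not in `O₂(C_G(Z))`. -/
theorem beta (hG : IsCharacteristicTwoType G) (hOff : StmtOff G) (hSne : (S : Subgroup G) ≠ ⊥)
    (hn : NotFF (cl Y H))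
    (hV : ¬ VL (S : Subgroup G) Y (LH (S : Subgroup G) Y H) ≤ o2 (centralizer (zc (S : Subgroup G) : Set G))) :
    ∃ F, MaxBad (VL (S : Subgroup G) Y (LH (S : Subgroup G) Y H)) F ∧
      Flat.WW (VL (S : Subgroup G) Y (LH (S : Subgroup G) Y H)) F ≤ B ∧
      ¬ Flat.WW (VL (S : Subgroup G) Y (LH (S : Subgroup G) Y H)) F ≤ o2 X ∧
      OffM (cl (VB Y B) X) (Flat.WW (VL (S : Subgroup G) Y (LH (S : Subgroup G) Y H)) F) := by
  have h := root_LH (f.SH a) f.Yz a.ZY hn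
  set V' := VL (S : Subgroup G) Y (LH (S : Subgroup G) Y H) with hV'
  obtain ⟨F0, hF0, hS0, hne0⟩ := exists_WW hG hSne h hV
  rw [cl_LH (f.SH a)] at hne0
  have hWB : ∀ F, MaxBad V' F → Flat.WW V' F ≤ (S : Subgroup G) → Flat.WW V' F ≤ B := by
    intro F hF hFS
    refine le_trans (le_inf hFS ?_) a.cs.le
    by_contra hne
    have hoff := off_of hG hOff h hF hFS (f.V_le.trans (f.cl_le_V' a hn)) a.low hne
    have h3 := a.nff _ (WW_pgroup _ _) (hFS.trans a.lines.S_le) hoff.sq hoff.comm hne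
    exact absurd (FFThm.relIndex_le_iff.1 hoff.le) (not_le.2 h3)
  obtain ⟨D, hD, hDX⟩ := f.exists_nle a
    (Fam := {D | D = WH (S : Subgroup G) Y (LH (S : Subgroup G) Y H) ∨
      ∃ F, MaxBad V' F ∧ Flat.WW V' F = D ∧ Flat.WW V' F ≤ (S : Subgroup G)}) (by
      rintro D (rfl | ⟨F, hF, rfl, hFS⟩)
      · exact f.WH_le_B a
      · exact hWB F hF hFS) (by
      intro g hg hgS
      have hgM : g ∈ ML (S : Subgroup G) Y (LH (S : Subgroup G) Y H) := mem_ML_of_le (hgS _ (Or.inl rfl))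
      rintro D (rfl | ⟨F, hF, rfl, hFS⟩)
      · rw [cj_eq_of_mem_normalizer hgM]
        exact le_sSup (Or.inl rfl)
      · have h1 := WW_cj (F := F) (ML_le_norm_V _ _ _ hgM)
        have h2 := hgS _ (Or.inr ⟨F, hF, rfl, hFS⟩)
        rw [← h1] at h2 ⊢
        exact le_sSup (Or.inr ⟨cj g F, hF.cj (ML_le_norm_V _ _ _ hgM), rfl, h2⟩))
    (D₀ := Flat.WW V' F0) (Or.inr ⟨F0, hF0, rfl, hS0⟩) hne0
  rcases hD with rfl | ⟨F, hF, rfl, hFS⟩
  · exfalso
    apply hDX
    refine le_trans (le_inf ((f.WH_le_B a).trans f.BT) ?_) (f.cent_U a)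
    exact (f.WH_le' a).trans (inf_le_right.trans (centralizer_le f.U_le))
  · have h3 := hWB F hF hFS
    refine ⟨F, hF, h3, hDX, off_of hG hOff h hF hFS (f.U_le.trans (f.cl_le_V' a hn)) (f.U_low a)
      fun h0 => ?_⟩
    exact hDX ((le_inf (h3.trans f.BT) h0).trans (f.cent_U a))

/-- `V_H` is not FF, `V' ≤ O₂(C_G(Z))`: `B'` is admissible and smaller. -/
theorem closed (hn : NotFF (cl Y H))
    (hV : VL (S : Subgroup G) Y (LH (S : Subgroup G) Y H) ≤ o2 (centralizer (zc (S : Subgroup G) : Set G))) :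
    Adm S Y L (WH (S : Subgroup G) Y (LH (S : Subgroup G) Y H)) ∧
      WH (S : Subgroup G) Y (LH (S : Subgroup G) Y H) ≤ B ∧
      WH (S : Subgroup G) Y (LH (S : Subgroup G) Y H) ≠ B := by
  have h := root_LH (f.SH a) f.Yz a.ZY hn
  have h1 := Adm.of_root h hV
  refine ⟨⟨a.ZY, h1.wc, (f.WH_le_B a).trans a.le, h1.cs, h1.comm, h1.sq, h1.nff, h1.low⟩, f.WH_le_B a,
    fun h0 => ?_⟩
  apply f.nle
  have h2 : cl Y H ≤ VB Y B := by
    have h3 := f.cl_le_V' a hn
    have h4 : VL (S : Subgroup G) Y (LH (S : Subgroup G) Y H) =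
        VB Y (WH (S : Subgroup G) Y (LH (S : Subgroup G) Y H)) := rfl
    rwa [h4, h0] at h3
  have h3 : cl (VB Y B) X = VB Y B :=
    le_antisymm (f.U_le.trans h2) (le_cl _ _)
  have h4 := le_normalizer_cl (VB Y B) X
  rwa [h3] at h4

/-! ### `⟨V^⟨S,X⟩⟩` -/

omit [Finite G] a in
/-- `⟨S, X⟩ ≤ C_G(Z)` -/
theorem SX_cent : (S : Subgroup G) ⊔ X ≤ centralizer (zc (S : Subgroup G) : Set G) :=
  sup_le (le_centralizer_zc _) f.XZ

/-- `⟨V^⟨S,X⟩⟩ ≤ O₂(C_G(Z))` -/
theorem Y_low : cl (VB Y B) ((S : Subgroup G) ⊔ X) ≤ o2 (centralizer (zc (S : Subgroup G) : Set G)) := by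
  refine cl_le fun x hx => ?_
  have h1 := cj_mono x a.low
  rwa [cj_eq_of_mem_normalizer (le_normalizer_o2 _ (f.SX_cent hx))] at h1

theorem Y_le_S : cl (VB Y B) ((S : Subgroup G) ⊔ X) ≤ (S : Subgroup G) :=
  (f.Y_low a).trans (o2_le_syl (syl_of_le (le_centralizer_zc _)))

/-- `⟨V^⟨S,X⟩⟩ ≤ V_H` -/
theorem Y_le : cl (VB Y B) ((S : Subgroup G) ⊔ X) ≤ cl Y H := by
  refine cl_le fun x hx => ?_
  have h1 := cj_mono x f.V_le
  rwa [cj_eq_of_mem_normalizer (le_normalizer_cl _ _ ((sup_le (f.SH a) f.XH) hx))] at h1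

theorem Y_comm : cl (VB Y B) ((S : Subgroup G) ⊔ X) ≤
    centralizer (cl (VB Y B) ((S : Subgroup G) ⊔ X) : Set G) := by
  intro x hx
  rw [mem_centralizer_iff]
  intro y hy
  exact (mem_centralizer_iff.1 (cl_cent f.Yz (f.Y_le a hx)) y (f.Y_le a hy))

theorem Y_sq : ∀ y ∈ cl (VB Y B) ((S : Subgroup G) ⊔ X), y ^ 2 = 1 := fun y hy =>
  cl_sq f.Yz y (f.Y_le a hy)

omit [Finite G] f a in
theorem U_le_Y : cl (VB Y B) X ≤ cl (VB Y B) ((S : Subgroup G) ⊔ X) :=
  cl_le fun _ hx => cj_le_cl (le_sup_right (a := (S : Subgroup G)) hx)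

omit [Finite G] f a in
theorem V_le_Y : VB Y B ≤ cl (VB Y B) ((S : Subgroup G) ⊔ X) := le_cl _ _

/-- `C_{⟨V^⟨S,X⟩⟩}(S) ≤ Z` -/
theorem Y_inf_cent : cl (VB Y B) ((S : Subgroup G) ⊔ X) ⊓ centralizer (S : Set G) ≤
    zc (S : Subgroup G) := by
  rintro y ⟨hy, hyc⟩
  exact Cfsg.Agent.ZN.ChoiceBase.mem_zc.2 ⟨f.Y_le_S a hy, f.Y_sq a y hy, fun s hs => mem_centralizer_iff.1 hyc s hs⟩

/-- maximisers on `⟨V^⟨S,X⟩⟩` in `S` centralise `V` -/
theorem max_le {D : Subgroup G} (hD : Ok (cl (VB Y B) ((S : Subgroup G) ⊔ X)) D)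
    (hm : ∀ C, Ok (cl (VB Y B) ((S : Subgroup G) ⊔ X)) C →
      ff (cl (VB Y B) ((S : Subgroup G) ⊔ X)) C ≤
        ff (cl (VB Y B) ((S : Subgroup G) ⊔ X)) D) (hDS : D ≤ (S : Subgroup G)) :
    D ≤ centralizer (VB Y B : Set G) := by
  by_contra hne
  have hoff := offM_of_max hD hm (f.Y_comm a) V_le_Y hne
  have h3 := a.nff D hD.pg (hDS.trans a.lines.S_le) hoff.sq hoff.comm hne
  exact absurd (FFThm.relIndex_le_iff.1 hoff.le) (not_le.2 h3)

end Fr

end Cfsg.Agent.Omega.NO3b.Seed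

end

section


/-!
# The chain with a seed `Y`: `(M(L), V(L))` is a pair for #19499

`Stage S Y L`, `V = V(L) = VL S Y L`, `M = M(L)`, `C = C_G(Z)`.

* `Stage.hzV` : conjugates of `V` which meet commute; `Stage.W_comm`, `Stage.W_sq` : `⟨V^C⟩` is elementary abelian;
* `Stage.flagV` : `ClosedPt.Flag S Z V`; `Stage.geoV` : `ClosedPt.Geo S Z V M` if `⟨M, C⟩` is not local;
* `Stage.cent_le` : (ITR) `Z ≤ A ≤ V`, `S ≤ N(A)`, `C_S(A) ≤ C(V)`: then `C_G(A) ≤ C_G(V)`.
-/

set_option autoImplicit false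
set_option linter.unusedSectionVars false

namespace Cfsg.Agent.Omega.NO3b.Seed

open Subgroup Cfsg
open Cfsg.Agent.ZN (o2 zc zl jj zj)
open Cfsg.Agent.ZN.ChoiceBase hiding mem_zc
open Cfsg.Agent.ZN.ChoiceSit (Syl o2_le_syl syl_not_dvd)
open Cfsg.Agent.MinSimple.EmptyTI (syl_of_le)
open Cfsg.Agent.Omega.MinPar Cfsg.Agent.Omega.Frame Cfsg.Agent.Omega.FrameNOFF
open Cfsg.Agent.Omega.NO3b.EZero (NotFF Par cl cl_le le_cl cj_le_cl le_normalizer_cl cent_symm)
open Cfsg.Agent.Omega.NO3b.ClosedPt (Flag Clo Geo)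
open Cfsg.Agent.Omega.NO3b.Chain (le_normalizer_inf le_normalizer_centralizer)
open Cfsg.Agent.MinSimple.VModule (le_centralizer_zc le_normalizer_o2 mem_zc)

universe u

variable {G : Type u} [Group G] [Finite G] {S : Sylow 2 G} {Y L : Subgroup G}

section

variable (h : Stage S Y L) (hc : IsCharacteristicTwoType G) (hne : zc (S : Subgroup G) ≠ ⊥)
include h hc hne

/-- conjugates of `V(L)` which meet commute -/
theorem Stage.hzV (a b : G) (hab : cj a (VL (S : Subgroup G) Y L) ⊓ cj b (VL (S : Subgroup G) Y L) ≠ ⊥) :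
    cj a (VL (S : Subgroup G) Y L) ≤ centralizer ((cj b (VL (S : Subgroup G) Y L) : Subgroup G) : Set G) :=
  (h.lines hc hne).comm_of_inter ((h.lines hc hne).char2 hc) hab

/-- `V(L) ≤ O₂(C_G(Z))` -/
theorem Stage.geo_low_V : VL (S : Subgroup G) Y L ≤ o2 (centralizer (zc (S : Subgroup G) : Set G)) :=
  h.toRoot.low hc (Final.stmtOff G) h.low hne

/-- `⟨V^{C_G(Z)}⟩ ≤ O₂(C_G(Z))` -/
theorem Stage.W_le : cl (VL (S : Subgroup G) Y L) (centralizer (zc (S : Subgroup G) : Set G)) ≤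
    o2 (centralizer (zc (S : Subgroup G) : Set G)) := cl_le fun x hx => by
  have h1 := cj_mono x (h.geo_low_V hc hne)
  rwa [cj_eq_of_mem_normalizer (le_normalizer_o2 _ hx)] at h1

/-- `⟨V^{C_G(Z)}⟩` is abelian -/
theorem Stage.W_comm : cl (VL (S : Subgroup G) Y L) (centralizer (zc (S : Subgroup G) : Set G)) ≤
    centralizer (cl (VL (S : Subgroup G) Y L) (centralizer (zc (S : Subgroup G) : Set G)) : Set G) := by
  have key : ∀ c ∈ centralizer (zc (S : Subgroup G) : Set G), zc (S : Subgroup G) ≤ cj c (VL (S : Subgroup G) Y L) := by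
    intro c hcc z hz
    rw [mem_cj]
    have h1 := mem_centralizer_iff.1 hcc z hz
    have e : c⁻¹ * z * c = z := by rw [mul_assoc, h1]; group
    rw [e]
    exact h.zc_le_V hz
  refine cl_le fun a ha => cent_symm (cl_le fun b hb => ?_)
  refine h.hzV hc hne b a fun h0 => hne ?_
  rw [eq_bot_iff, ← h0]
  exact le_inf (key b hb) (key a ha)

theorem Stage.W_sq : ∀ a ∈ cl (VL (S : Subgroup G) Y L) (centralizer (zc (S : Subgroup G) : Set G)), a ^ 2 = 1 := by
  have hcomm : ∀ a ∈ cl (VL (S : Subgroup G) Y L) (centralizer (zc (S : Subgroup G) : Set G)),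
      ∀ b ∈ cl (VL (S : Subgroup G) Y L) (centralizer (zc (S : Subgroup G) : Set G)), a * b = b * a :=
    fun a ha b hb => mem_centralizer_iff.1 (h.W_comm hc hne hb) a ha
  let K : Subgroup G :=
    { carrier := {a | a ∈ cl (VL (S : Subgroup G) Y L) (centralizer (zc (S : Subgroup G) : Set G)) ∧ a ^ 2 = 1}
      one_mem' := ⟨one_mem _, one_pow _⟩
      mul_mem' := fun {a b} ha hb => ⟨mul_mem ha.1 hb.1, by
        rw [(show Commute a b from hcomm a ha.1 b hb.1).mul_pow, ha.2, hb.2, one_mul]⟩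
      inv_mem' := fun {a} ha => ⟨inv_mem ha.1, by rw [inv_pow, ha.2, inv_one]⟩ }
  have h1 : cl (VL (S : Subgroup G) Y L) (centralizer (zc (S : Subgroup G) : Set G)) ≤ K := cl_le fun x hx y hy =>
    ⟨cj_le_cl hx hy, by
      have h2 := h.V_sq _ (mem_cj.1 hy)
      have e : y = x * (x⁻¹ * y * x) * x⁻¹ := by group
      rw [e, conj_pow, h2, mul_one, mul_inv_cancel]⟩
  exact fun a ha => (h1 ha).2

/-- `C_W(S) = Z`, `W = ⟨V^{C_G(Z)}⟩` -/
theorem Stage.W_fix {w : G} (hw : w ∈ cl (VL (S : Subgroup G) Y L) (centralizer (zc (S : Subgroup G) : Set G)))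
    (hS : ∀ s ∈ (S : Subgroup G), s * w = w * s) : w ∈ zc (S : Subgroup G) :=
  mem_zc.2 ⟨((h.W_le hc hne).trans (o2_le_syl (syl_of_le (le_centralizer_zc _)))) hw, fun s hs => hS s hs,
    h.W_sq hc hne w hw⟩

theorem Stage.flagV : Flag (S : Subgroup G) (zc (S : Subgroup G)) (VL (S : Subgroup G) Y L) :=
  Flag.of_fix (syl_of_le (le_centralizer_zc _)) h.zc_le_V (h.S_le.trans (ML_le_norm_V _ _ _)) (h.geo_low_V hc hne)
    (h.W_comm hc hne) (fun v hv => by rw [← pow_two]; exact h.V_sq v hv)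
    (fun _ hw hS _ => h.W_fix hc hne hw hS)

/-- **`(M(L), V(L))` is a pair for #19499.** -/
theorem Stage.geoV (hn : NonLoc (ML (S : Subgroup G) Y L) (CZ (S : Subgroup G))) :
    Geo (S : Subgroup G) (zc (S : Subgroup G)) (VL (S : Subgroup G) Y L) (ML (S : Subgroup G) Y L) where
  flag := h.flagV hc hne
  ne := hne
  norm := ML_le_norm_V _ _ _
  hz := h.hzV hc hne
  nonloc := hn

/-- **(0), ITR on an `S`-invariant subgroup**: `Z ≤ A ≤ V(L)`, `C_S(A) ≤ C(V)`: then `C_G(A) ≤ C_G(V)`. -/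
theorem Stage.cent_le {A : Subgroup G} (hZA : zc (S : Subgroup G) ≤ A) (hSA : (S : Subgroup G) ≤ normalizer (A : Set G))
    (hcs : (S : Subgroup G) ⊓ centralizer (A : Set G) ≤ centralizer (VL (S : Subgroup G) Y L : Set G)) :
    centralizer (A : Set G) ≤ centralizer (VL (S : Subgroup G) Y L : Set G) := by
  have hCZ : centralizer (A : Set G) ≤ centralizer (zc (S : Subgroup G) : Set G) := centralizer_le hZA
  have hWn : centralizer (zc (S : Subgroup G) : Set G) ≤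
      normalizer (cl (VL (S : Subgroup G) Y L) (centralizer (zc (S : Subgroup G) : Set G)) : Set G) :=
    le_normalizer_cl _ _
  have key := ClosedPt.trace (W := cl (VL (S : Subgroup G) Y L) (centralizer (zc (S : Subgroup G) : Set G)))
    (X := centralizer (A : Set G)) (T := (S : Subgroup G))
    (fun a ha b hb => mem_centralizer_iff.1 (h.W_comm hc hne hb) a ha)
    (fun a ha => by rw [← pow_two]; exact h.W_sq hc hne a ha) (hCZ.trans hWn) S.isPGroup'
    ((le_centralizer_zc _).trans hWn) (le_normalizer_centralizer hSA) (syl_not_dvd (Exit.syl_cs hSA))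
    (fun w hw hf x hx => (mem_centralizer_iff.1 (hCZ hx) w (h.W_fix hc hne hw hf)).symm)
  intro x hx
  rw [mem_centralizer_iff]
  intro v hv
  exact (key v (le_cl _ _ hv) (fun t ht => (mem_centralizer_iff.1 (hcs ht) v hv).symm) x hx).symm

end

end Cfsg.Agent.Omega.NO3b.Seed

end

section


/-!
# NotFF (c), local exit: LEMMA T along the chain with a seed `Y` (helper235's `Chain/LemT.lean`)

`L` is reached from `P`, `M = M(L)` normalises a subgroup `R`, `D = S ∩ R`.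

* `le_WH_of_cent` : (T1) `[V_L, D] = 1` implies `D ≤ W(L)`;
* `Step.cent_of_le` : (T2) `D ≤ W(L)`, `O²(X) ≰ R` imply `[V_{L'}, D] = 1`;
* `lemT`, `lemT_WH` : **LEMMA T**: `[V_P, D] = 1` implies `[V(L), D] = 1`, if `O²(X) ≰ R` for all panels `X` used;
* `lemT_fix` : the same if `O²(X)` centralises `C_{V(L)}(D)` for all `X ≤ C_M(Z)` with `O²(X) ≤ R`;
* `oddGen_le` : if `[V(L), D] ≠ 1`, then `O²(P) ≤ R`, `P ∈ P*(S)`.
-/

set_option autoImplicit false
set_option linter.unusedSectionVars false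

namespace Cfsg.Agent.Omega.NO3b.Seed

open Subgroup Cfsg
open Cfsg.Agent.ZN (o2 zc zl jj zj)
open Cfsg.Agent.ZN.ChoiceBase hiding mem_zc
open Cfsg.Agent.ZN.ChoiceSit (Syl o2_le_syl)
open Cfsg.Agent.Omega.MinPar Cfsg.Agent.Omega.Frame
open Cfsg.Agent.Omega.NO3b.EZero (NotFF Par cent_symm cl le_cl cj_le_cl cl_le le_normalizer_cl)
open Cfsg.Agent.Omega.NO3b.Alpha (Fl)
open Cfsg.Agent.Omega.NO3b.NoEmp (Lines)
open Cfsg.Agent.Omega.NO3b.Chain (le_normalizer_inf le_normalizer_centralizer cj_inf_le)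
open Cfsg.Agent.MinSimple.VModule (oddGen oddGen_le oddGen_le_of_sup le_normalizer_o2 le_centralizer_zc)

universe u

variable {G : Type u} [Group G] [Finite G] {S : Sylow 2 G} {Y P L F T X R : Subgroup G}

/-- **(T1)** -/
theorem le_WH_of_cent (hR : ML (S : Subgroup G) Y L ≤ normalizer (R : Set G))
    (hD : (S : Subgroup G) ⊓ R ≤ centralizer (cl Y L : Set G)) :
    (S : Subgroup G) ⊓ R ≤ WH (S : Subgroup G) Y L := by
  set K : Subgroup G := (S : Subgroup G) ⊓ R ⊔ WH (S : Subgroup G) Y L with hK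
  have hKQ : K ≤ QL (S : Subgroup G) Y L := sup_le (le_inf inf_le_left hD) (WH_le _ _ _)
  refine (le_sup_left : (S : Subgroup G) ⊓ R ≤ K).trans (le_WH ⟨hKQ.trans inf_le_left, fun g hg => ?_⟩ hKQ)
  have h2 : g ∈ ML (S : Subgroup G) Y L := mem_ML_of_le ((cj_mono g le_sup_right).trans hg)
  have h4 : cj g K ≤ K := by
    change Subgroup.map _ _ ≤ _
    rw [hK, Subgroup.map_sup]
    refine sup_le_sup (cj_inf_le hR h2 ((cj_mono g le_sup_left).trans hg)) ?_
    exact (cj_eq_of_mem_normalizer h2).le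
  exact Subgroup.eq_of_le_of_card_ge h4 (card_cj _ _).ge

/-- **(T2)** -/
theorem Step.cent_of_le (s : Step S Y L F T X) (h : Root S Y L)
    (l : Lines S (WH (S : Subgroup G) Y L) (VL (S : Subgroup G) Y L))
    (hR : nx (S : Subgroup G) Y L X ≤ normalizer (R : Set G)) (hD : (S : Subgroup G) ⊓ R ≤ WH (S : Subgroup G) Y L)
    (hX : ¬ oddGen X ≤ R) :
    (S : Subgroup G) ⊓ R ≤ centralizer (cl Y (nx (S : Subgroup G) Y L X) : Set G) := by
  have h1 : (S : Subgroup G) ⊓ R = WH (S : Subgroup G) Y L ⊓ R :=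
    le_antisymm (le_inf hD inf_le_right) (inf_le_inf_right _ (WH_le_S _ _ _))
  have h2 : (S : Subgroup G) ⊓ R = o2 X ⊓ R := by
    apply le_antisymm
    · refine le_inf ?_ inf_le_right
      rcases s.min_or l (K := X ⊓ R) inf_le_left
        (le_normalizer_inf Subgroup.le_normalizer (Step.X_le.trans hR)) with h3 | h3
      · exact absurd (h3.trans inf_le_right) hX
      · have h4 : (S : Subgroup G) ⊓ R ≤ T := hD.trans (s.WH_le h)
        exact (le_inf h4 (le_inf (h4.trans s.par.T_le) inf_le_right)).trans h3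
    · exact inf_le_inf_right _ ((o2_le_syl (s.fl.sylX s.par)).trans s.fl.T_le)
  have h5 : nx (S : Subgroup G) Y L X ≤ normalizer (((S : Subgroup G) ⊓ R : Subgroup G) : Set G) := by
    refine sup_le ?_ ?_
    · rw [h1]
      exact le_normalizer_inf le_rfl (Step.ML_le.trans hR)
    · rw [h2]
      exact le_normalizer_inf (le_normalizer_o2 X) (Step.X_le.trans hR)
  refine cent_symm (cl_le' ?_ (le_normalizer_centralizer h5))
  exact cent_symm (hD.trans (h.WH_cent.trans (centralizer_le (Y_le_V _ _ _))))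

/-- **LEMMA T** along the chain, `D ≤ W(L)`. -/
theorem lemT_WH (hc : IsCharacteristicTwoType G) (hne : zc (S : Subgroup G) ≠ ⊥) (hP : Stage S Y P)
    (r : Reach S Y P L) (hR : ML (S : Subgroup G) Y L ≤ normalizer (R : Set G))
    (hX : ∀ L₁ F T X : Subgroup G, Reach S Y P L₁ → Step S Y L₁ F T X → Reach S Y (nx (S : Subgroup G) Y L₁ X) L →
      (S : Subgroup G) ⊓ R ≤ WH (S : Subgroup G) Y L₁ → ¬ oddGen X ≤ R)
    (h0 : (S : Subgroup G) ⊓ R ≤ centralizer (cl Y P : Set G)) :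
    (S : Subgroup G) ⊓ R ≤ WH (S : Subgroup G) Y L := by
  have key : ∀ L₁ : Subgroup G, Reach S Y P L₁ → Reach S Y L₁ L →
      (S : Subgroup G) ⊓ R ≤ centralizer (cl Y L₁ : Set G) := by
    intro L₁ r₁
    induction r₁ with
    | base => exact fun _ => h0
    | @step L₂ F T X r₂ s ih =>
      intro r₃
      have hs := r₂.stage hc hne hP
      have hs' := (r₂.step s).stage hc hne hP
      have r₄ : Reach S Y L₂ L := (Reach.base.step s).trans r₃
      have h1 := le_WH_of_cent ((r₄.ML_le hc hne hs).trans hR) (ih r₄)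
      exact s.cent_of_le hs.toRoot (hs.lines hc hne) ((hs'.L_le.trans (r₃.ML_le hc hne hs')).trans hR) h1
        (hX L₂ F T X r₂ s r₃ h1)
  exact le_WH_of_cent hR (key L r Reach.base)

/-- **LEMMA T** along the chain. -/
theorem lemT (hc : IsCharacteristicTwoType G) (hne : zc (S : Subgroup G) ≠ ⊥) (hP : Stage S Y P)
    (r : Reach S Y P L) (hR : ML (S : Subgroup G) Y L ≤ normalizer (R : Set G))
    (hX : ∀ L₁ F T X : Subgroup G, Reach S Y P L₁ → Step S Y L₁ F T X → Reach S Y (nx (S : Subgroup G) Y L₁ X) L →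
      (S : Subgroup G) ⊓ R ≤ WH (S : Subgroup G) Y L₁ → ¬ oddGen X ≤ R)
    (h0 : (S : Subgroup G) ⊓ R ≤ centralizer (cl Y P : Set G)) :
    (S : Subgroup G) ⊓ R ≤ centralizer (VL (S : Subgroup G) Y L : Set G) :=
  (lemT_WH hc hne hP r hR hX h0).trans (r.stage hc hne hP).WH_cent

/-- The panels used: `X ≤ C_M(Z)`, and `O²(X)` does not centralise `C_{V(L)}(D)` if `D ≤ W(L₁)`. -/
theorem not_cent_of (hc : IsCharacteristicTwoType G) (hne : zc (S : Subgroup G) ≠ ⊥) (hP : Stage S Y P)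
    {L₁ : Subgroup G} (r₁ : Reach S Y P L₁) (s : Step S Y L₁ F T X) (r₃ : Reach S Y (nx (S : Subgroup G) Y L₁ X) L)
    (hD : (S : Subgroup G) ⊓ R ≤ WH (S : Subgroup G) Y L₁) :
    X ≤ ML (S : Subgroup G) Y L ∧ X ≤ centralizer (zc (S : Subgroup G) : Set G) ∧
      ¬ oddGen X ≤ centralizer ((VL (S : Subgroup G) Y L ⊓
        centralizer (((S : Subgroup G) ⊓ R : Subgroup G) : Set G) : Subgroup G) : Set G) := by
  have hs := r₁.stage hc hne hP
  have hs' := (r₁.step s).stage hc hne hP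
  refine ⟨(Step.X_le.trans hs'.L_le).trans (r₃.ML_le hc hne hs'), s.par.le.trans (centralizer_le s.zF), ?_⟩
  intro h1
  apply s.oddGen_nle hs.toRoot
  refine (h1.trans (centralizer_le ?_)).trans (centralizer_le_normalizer _)
  refine le_inf ((s.lt hs'.toRoot).le.trans (r₃.V_le hc hne hs')) ?_
  exact cent_symm (hD.trans hs.WH_cent)

/-- **LEMMA T**, the panels excluded by the action on `C_{V(L)}(D)`. -/
theorem lemT_fix (hc : IsCharacteristicTwoType G) (hne : zc (S : Subgroup G) ≠ ⊥) (hP : Stage S Y P)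
    (r : Reach S Y P L) (hR : ML (S : Subgroup G) Y L ≤ normalizer (R : Set G))
    (hX : ∀ X : Subgroup G, X ≤ ML (S : Subgroup G) Y L → X ≤ centralizer (zc (S : Subgroup G) : Set G) →
      oddGen X ≤ R → oddGen X ≤ centralizer ((VL (S : Subgroup G) Y L ⊓
        centralizer (((S : Subgroup G) ⊓ R : Subgroup G) : Set G) : Subgroup G) : Set G))
    (h0 : (S : Subgroup G) ⊓ R ≤ centralizer (cl Y P : Set G)) :
    (S : Subgroup G) ⊓ R ≤ centralizer (VL (S : Subgroup G) Y L : Set G) := by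
  refine lemT hc hne hP r hR (fun L₁ F T X r₁ s r₃ hD hXR => ?_) h0
  obtain ⟨h1, h2, h3⟩ := not_cent_of hc hne hP r₁ s r₃ hD
  exact h3 (hX X h1 h2 hXR)

/-- **If `[V(L), D] ≠ 1`, then `O²(P) ≤ R`**, `P ∈ P*(S)`, `C_S(V_P)` centralises `⟨Y^P⟩`. -/
theorem oddGen_le_of_not (hc : IsCharacteristicTwoType G) (hne : zc (S : Subgroup G) ≠ ⊥)
    (hPar : IsPar (S : Subgroup G) P) (hP : Stage S Y P)
    (hQ : (S : Subgroup G) ⊓ centralizer (zl (S : Subgroup G) P : Set G) ≤ centralizer (cl Y P : Set G))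
    (r : Reach S Y P L) (hR : ML (S : Subgroup G) Y L ≤ normalizer (R : Set G))
    (hX : ∀ X : Subgroup G, X ≤ ML (S : Subgroup G) Y L → X ≤ centralizer (zc (S : Subgroup G) : Set G) →
      oddGen X ≤ R → oddGen X ≤ centralizer ((VL (S : Subgroup G) Y L ⊓
        centralizer (((S : Subgroup G) ⊓ R : Subgroup G) : Set G) : Subgroup G) : Set G))
    (hV : ¬ (S : Subgroup G) ⊓ R ≤ centralizer (VL (S : Subgroup G) Y L : Set G)) : oddGen P ≤ R :=
  (Chain.oddGen_le_or hc hPar (((r.le hc hne hP).trans (r.stage hc hne hP).L_le).trans hR)).resolve_right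
    fun h0 => hV (lemT_fix hc hne hP r hR hX ((le_inf inf_le_left h0).trans hQ))

end Cfsg.Agent.Omega.NO3b.Seed

end
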