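import Cfsg.Agent.Mrg.Omega.NO3b.Seed.Two
import Cfsg.Agent.Mrg.Omega.NO3b.Seed.Red
import Cfsg.Agent.Mrg.Omega.NO3b.Exit.Bridge
import Cfsg.Agent.Mrg.Omega.NO3b.BetaTwo.FamPlug
import Cfsg.Agent.Mrg.Omega.NO3b.TheoremL.Core2
import Cfsg.Agent.Mrg.Omega.NO3b.Exit.TenSplit
import Cfsg.Agent.Mrg.Omega.NO3b.Exit.AllLocal

section


/-!
# The chain with a seed `Y`: case (γ) at the last member (#20856 (2); helper235's `Chain/Gam.lean`)

`L` a member of the chain, `(F, T, X)` a panel of `V = V(L)`, `H = ⟨M(L), X⟩`, `U = ⟨Y^H⟩`, `Γ = XX hN` the group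
induced by `H` on `U`.

* `Stage.sit` : the panel acts on `U` (`Bridge.Sit`);
* `Stage.mx_of` : the M-side frame `MX` for the images of `M(L)`, `X`, `W(L)`, `A` for every line `x V` moved by the
  optimal offender `A ≤ W(L)`, if `O₂(M / C_M(V)) = 1` (`Seed/Red.lean`);
* `Stage.mx`, `Stage.exists_mx` : the same under `Core S Y` and `P*(S) ⊆ M(L)`;
* `SM_bar`, `syl_bar` : fields of `Blk`.
-/

set_option autoImplicit false
set_option linter.unusedSectionVars false

namespace Cfsg.Agent.Omega.NO3b.Seed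

open Subgroup Cfsg
open Cfsg.Agent.ZN (o2 zc zl jj zj)
open Cfsg.Agent.ZN.ChoiceBase hiding mem_zc
open Cfsg.Agent.ZN.ChoiceSit (Syl o2_le_syl syl_not_dvd)
open Cfsg.Agent.MinSimple.EmptyTI (syl_of_le)
open Cfsg.Agent.Omega.MinPar (IsParS)
open Cfsg.Agent.Omega.NO3b.EZero (NotFF Par cl le_cl cj_le_cl cl_le le_normalizer_cl)
open Cfsg.Agent.Omega.NO3b.Alpha (Fl)
open Cfsg.Agent.Omega.NO3b.NoEmp (Lines)
open Cfsg.Agent.Omega.NOThreeL.Star (Opt)
open Cfsg.Agent.Omega.NO3b.Exit.Bridge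
open Cfsg.Agent.Omega.NO3b.Exit (LocBar.im_mono LocBar.im_smul LocBar.im_conj LocBar.im_fix LocBar.isPGroup_im
  LocBar.syl_im LocBar.pr_mem_im)
open Cfsg.Agent.Omega.NO3b.Exit.TDat (MX Red mx_of_tight)
open Cfsg.Agent.Omega.FFBr (XX pr im mem_im)
open Cfsg.Agent.Omega.FF.Basic (fx)
open Cfsg.Agent.Omega.NO3b.Exit.TT (nf)
open Cfsg.Agent.MinSimple.VModule (le_normalizer_o2 o2_le oddGen)
open scoped Pointwise

universe u

variable {G : Type u} [Group G] {S Y L F T X : Subgroup G}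

/-- `U = ⟨Y^H⟩`, `H = ⟨M(L), X⟩` -/
abbrev UU (S Y L X : Subgroup G) : Subgroup G := cl Y (nx S Y L X)

/-- `H` normalises `U` -/
theorem hN (S Y L X : Subgroup G) : nx S Y L X ≤ normalizer (UU S Y L X : Set G) := le_normalizer_cl _ _

variable [Finite G]

section stage

variable {S : Sylow 2 G} (h : Stage S Y L) (hsd : Seed S Y L) (hc : IsCharacteristicTwoType G)
  (hne : zc (S : Subgroup G) ≠ ⊥)
  (f : Fl S (VL (S : Subgroup G) Y L) F T) (hZ : zc (S : Subgroup G) ≤ F)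
  (p : Par (VL (S : Subgroup G) Y L) F T X)
include h hsd hc hne f hZ p

theorem Stage.cU : UU (S : Subgroup G) Y L X ≤ centralizer (UU (S : Subgroup G) Y L X : Set G) :=
  cl_cent (h.fr hsd hc hne f hZ p).Yz

/-- the panel acts on `U` -/
theorem Stage.sit : Sit (VL (S : Subgroup G) Y L) F T X (UU (S : Subgroup G) Y L X) :=
  Sit.of_fl hc (h.lines hc hne) f p (h.cU hsd hc hne f hZ p)
    (cl_sq (h.fr hsd hc hne f hZ p).Yz) Step.V_le
    (Step.X_le.trans (le_normalizer_cl _ _))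

/-- the M-side frame for every line moved by `A` -/
theorem Stage.mx_of {A : Subgroup G} (hA : Opt (UU (S : Subgroup G) Y L X) A) (hAW : A ≤ WH (S : Subgroup G) Y L)
    (hAX : ¬ A ≤ o2 X) (h2 : K0.Mix.Two (VL (S : Subgroup G) Y L) X)
    (hred : Red (im (hN (S : Subgroup G) Y L X) (ML (S : Subgroup G) Y L))
      (ad (h.cU hsd hc hne f hZ p) (VL (S : Subgroup G) Y L)))
    {x : ↥(im (hN (S : Subgroup G) Y L X) X)}
    (hx : ¬ imx (hN (S : Subgroup G) Y L X) X A ≤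
      nf _ (sm x (ad (h.cU hsd hc hne f hZ p) (VL (S : Subgroup G) Y L)))) :
    MX (im (hN (S : Subgroup G) Y L X) (ML (S : Subgroup G) Y L)) (im (hN (S : Subgroup G) Y L X) X)
      (im (hN (S : Subgroup G) Y L X) (WH (S : Subgroup G) Y L)) (im (hN (S : Subgroup G) Y L X) A)
      (ad (h.cU hsd hc hne f hZ p) (VL (S : Subgroup G) Y L)) (ad (h.cU hsd hc hne f hZ p) F)
      (x : XX (hN (S : Subgroup G) Y L X)) := by
  have s := h.sit hsd hc hne f hZ p
  have fr := h.fr hsd hc hne f hZ p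
  have hXH : X ≤ nx (S : Subgroup G) Y L X := Step.X_le
  have hMH : ML (S : Subgroup G) Y L ≤ nx (S : Subgroup G) Y L X := Step.ML_le
  obtain ⟨P, hP⟩ := s.exists_syl (hN (S : Subgroup G) Y L X) hXH
  have hAT : A ≤ T := hAW.trans fr.BT
  have hAXX : A ≤ X := hAT.trans s.syl.1
  have e : (imx (hN (S : Subgroup G) Y L X) X A).map (im (hN (S : Subgroup G) Y L X) X).subtype =
      im (hN (S : Subgroup G) Y L X) A := by
    unfold imx
    rw [subgroupOf_map_subtype]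
    exact inf_eq_left.2 (LocBar.im_mono _ hAXX)
  have hSM : (S : Subgroup G) ≤ ML (S : Subgroup G) Y L := h.S_le
  have key := mx_of_tight (faith (hc := s.cm) (hN (S : Subgroup G) Y L X))
    (s.datU (hN (S : Subgroup G) Y L X) hXH hP)
    (s.mbu (hN (S : Subgroup G) Y L X) hXH hA hAT hAX) (by
      intro h0
      refine s.two_ne hA hAT hAX h2 fun a ha => ?_
      have h1 : phi (hN (S : Subgroup G) Y L X) hXH ⟨a, hAXX ha.1⟩ ∈
          imx (hN (S : Subgroup G) Y L X) X A ⊓ pCore 2 ↥(im (hN (S : Subgroup G) Y L X) X) :=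
        ⟨phi_mem_imx _ hXH ha.1, (s.mem_core_iff _ hXH (hAT ha.1)).2 ha.2⟩
      rw [h0, mem_bot] at h1
      exact (phi_eq_one _ hXH).1 h1)
    (M := im (hN (S : Subgroup G) Y L X) (ML (S : Subgroup G) Y L))
    (D := im (hN (S : Subgroup G) Y L X) (WH (S : Subgroup G) Y L))
    (fun m hm v hv => LocBar.im_smul _ (ML_le_norm_V _ _ _) hm hv)
    (LocBar.im_mono _ (fr.BT.trans s.syl.1)) (by rw [e]; exact LocBar.im_mono _ hAW)
    (fun m hm d hd => LocBar.im_conj _ (by rfl) hm hd)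
    (fun d hd v hv => LocBar.im_fix _ h.WH_cent hd hv) (by
      rw [← s.core_eq (hN (S : Subgroup G) Y L X) hXH]
      unfold imx
      rw [subgroupOf_map_subtype]
      refine inf_le_left.trans (LocBar.im_mono _ ?_)
      exact (o2_le_syl s.syl).trans (f.T_le.trans hSM)) hred hx
  rwa [e] at key

/-- `O₂(M / C_M(V)) = 1` for the image `M` of `M(L)` in `XX hN`. -/
theorem Stage.red (hK : Core (S : Subgroup G) Y)
    (hpar : ∀ R, IsParS (S : Subgroup G) R → R ≤ ML (S : Subgroup G) Y L) :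
    Red (im (hN (S : Subgroup G) Y L X) (ML (S : Subgroup G) Y L))
      (ad (h.cU hsd hc hne f hZ p) (VL (S : Subgroup G) Y L)) :=
  Seed.red _ _ h.toRoot hc hK hpar Step.ML_le Step.V_le

/-- the M-side frame for every line moved by `A` -/
theorem Stage.mx (hK : Core (S : Subgroup G) Y)
    (hpar : ∀ R, IsParS (S : Subgroup G) R → R ≤ ML (S : Subgroup G) Y L)
    {A : Subgroup G} (hA : Opt (UU (S : Subgroup G) Y L X) A) (hAW : A ≤ WH (S : Subgroup G) Y L)
    (hAX : ¬ A ≤ o2 X) (h2 : K0.Mix.Two (VL (S : Subgroup G) Y L) X)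
    {x : ↥(im (hN (S : Subgroup G) Y L X) X)}
    (hx : ¬ imx (hN (S : Subgroup G) Y L X) X A ≤
      nf _ (sm x (ad (h.cU hsd hc hne f hZ p) (VL (S : Subgroup G) Y L)))) :
    MX (im (hN (S : Subgroup G) Y L X) (ML (S : Subgroup G) Y L)) (im (hN (S : Subgroup G) Y L X) X)
      (im (hN (S : Subgroup G) Y L X) (WH (S : Subgroup G) Y L)) (im (hN (S : Subgroup G) Y L X) A)
      (ad (h.cU hsd hc hne f hZ p) (VL (S : Subgroup G) Y L)) (ad (h.cU hsd hc hne f hZ p) F)
      (x : XX (hN (S : Subgroup G) Y L X)) :=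
  h.mx_of hsd hc hne f hZ p hA hAW hAX h2 (h.red hsd hc hne f hZ p hK hpar) hx

omit hZ p in
/-- **(γ)**: the M-side frame at the last member of the chain. -/
theorem Stage.exists_mx (hK : Core (S : Subgroup G) Y)
    (hpar : ∀ R, IsParS (S : Subgroup G) R → R ≤ ML (S : Subgroup G) Y L)
    (hZ : zc (S : Subgroup G) ≤ F) (p : Par (VL (S : Subgroup G) Y L) F T X)
    (hff : ¬ NotFF (UU (S : Subgroup G) Y L X)) :
    ∃ (A : Subgroup G) (x : XX (hN (S : Subgroup G) Y L X)), Opt (UU (S : Subgroup G) Y L X) A ∧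
      A ≤ WH (S : Subgroup G) Y L ∧ ¬ A ≤ o2 X ∧ x ∈ im (hN (S : Subgroup G) Y L X) X ∧
      MX (im (hN (S : Subgroup G) Y L X) (ML (S : Subgroup G) Y L)) (im (hN (S : Subgroup G) Y L X) X)
        (im (hN (S : Subgroup G) Y L X) (WH (S : Subgroup G) Y L)) (im (hN (S : Subgroup G) Y L X) A)
        (ad (h.cU hsd hc hne f hZ p) (VL (S : Subgroup G) Y L)) (ad (h.cU hsd hc hne f hZ p) F) x := by
  obtain ⟨A, hA, hAW, hAX⟩ := h.exists_opt hsd hc hne f hZ p hff
  have s := h.sit hsd hc hne f hZ p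
  have hXH : X ≤ nx (S : Subgroup G) Y L X := Step.X_le
  have hAT : A ≤ T := hAW.trans (h.fr hsd hc hne f hZ p).BT
  obtain ⟨x, hx⟩ := (s.tight (hN (S : Subgroup G) Y L X) hXH hA hAT hAX).ex
  exact ⟨A, x, hA, hAW, hAX, x.2,
    h.mx hsd hc hne f hZ p hK hpar hA hAW hAX (h.two hsd hc hne f hZ p (Or.inl hff)) hx⟩

end stage

/-! ### the fields `syl`, `S2` of `Blk` -/

section bar

variable {S : Sylow 2 G} (h : Stage S Y L) {U H : Subgroup G} (hN : H ≤ normalizer (U : Set G))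
  (hM : ML (S : Subgroup G) Y L ≤ H)

theorem SM_bar (h : Stage S Y L) : im hN (S : Subgroup G) ≤ im hN (ML (S : Subgroup G) Y L) :=
  LocBar.im_mono _ h.S_le

include h hM in
theorem syl_bar : ¬ 2 ∣ (im hN (S : Subgroup G)).relIndex (im hN (ML (S : Subgroup G) Y L)) :=
  syl_not_dvd (LocBar.syl_im hN (syl_of_le h.S_le) hM)

omit [Finite G] in
/-- `V = ⟨Y^M⟩` -/
theorem gen_bar {M V : Subgroup G} (hU : U ≤ centralizer (U : Set G)) (hM : M ≤ H) (hVU : V ≤ U) (hYV : Y ≤ V)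
    (hV : ∀ W : Subgroup G, Y ≤ W → M ≤ normalizer (W : Set G) → V ≤ W)
    (W : AddSubgroup (MU hU)) (hW : ∀ m ∈ im hN M, ∀ w ∈ W, m • w ∈ W)
    (hYW : ad hU Y ≤ W) : ad hU V ≤ W := by
  have h1 : V ≤ un W := by
    refine hV _ (fun z hz => ?_) fun m hm => ?_
    · have h2 : mk hU (hVU (hYV hz)) ∈ W := hYW hz
      exact ⟨_, h2, rfl⟩
    · have key : ∀ a : G, a ∈ M → ∀ w ∈ un W, a * w * a⁻¹ ∈ un W := by
        rintro a ha _ ⟨w, hw, rfl⟩
        exact ⟨pr hN ⟨a, hM ha⟩ • w, hW _ (LocBar.pr_mem_im hN ha (hM ha)) w hw, rfl⟩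
      rw [mem_normalizer_iff]
      intro w
      refine ⟨key m hm w, fun hw => ?_⟩
      have h2 := key m⁻¹ (inv_mem hm) _ hw
      have e : m⁻¹ * (m * w * m⁻¹) * m⁻¹⁻¹ = w := by group
      rwa [e] at h2
  intro v hv
  exact val_mem_un.1 (h1 hv)

omit [Finite G] in
/-- `V(L)` is generated by the conjugates of `Y`. -/
theorem gen_bar_stage (hU : U ≤ centralizer (U : Set G)) (hM : ML (S : Subgroup G) Y L ≤ H)
    (hVU : VL (S : Subgroup G) Y L ≤ U)
    (W : AddSubgroup (MU hU)) (hW : ∀ m ∈ im hN (ML (S : Subgroup G) Y L), ∀ w ∈ W, m • w ∈ W)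
    (hYW : ad hU Y ≤ W) : ad hU (VL (S : Subgroup G) Y L) ≤ W :=
  gen_bar hN hU hM hVU (le_cl _ _) (fun _ hW hWM => cl_le' hW hWM) W hW hYW

end bar

end Cfsg.Agent.Omega.NO3b.Seed

end

section


/-!
# The chain with a seed `Y`: (γ) over any local `J` (#20856 (2), #21336)

`B` admissible (`Adm S Y L B`), `V = VB Y B = ⟨Y^{N_G(B)}⟩`, `J ≥ N_G(B)`, `Y ≤ Ω₁(Z(O₂(J)))`, `U = ⟨Y^J⟩ = cl Y J`,
`(F, T, X)` a panel of `V`, `X ≤ J`.

* `blkMX` : `MX` gives `Blk0`;
* `Adm.sitJ` : the panel acts on `U`; `Adm.mxJ` : the M-side frame `MX` for the images of `N_G(B)`, `X`, `B`, `A` on `U`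
  for every line `x V` moved by the optimal offender `A ≤ B` of `U`, `A ≰ O₂(X)`; `Adm.blkJ` : the blocks;
* `Adm.exists_optJ` : `J = ⟨N_G(B), X i⟩`, `U` FF: an optimal offender `A ≤ B` of `U`, `A ≰ O₂(X i)` for some `i`;
* `Adm.exists_blkJ` : so some panel of the family has its blocks in `U`.
-/

set_option autoImplicit false
set_option linter.unusedSectionVars false

namespace Cfsg.Agent.Omega.NO3b.Seed

open Subgroup Cfsg
open Cfsg.Agent.ZN (o2 zc zl jj zj)
open Cfsg.Agent.ZN.ChoiceBase hiding mem_zc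
open Cfsg.Agent.ZN.ChoiceSit (Syl o2_le_syl syl_not_dvd)
open Cfsg.Agent.MinSimple.EmptyTI (syl_of_le)
open Cfsg.Agent.Omega.MinPar (IsParS IsLoc)
open Cfsg.Agent.Omega.NO3b.EZero (NotFF Par cl le_cl cj_le_cl cl_le le_normalizer_cl)
open Cfsg.Agent.Omega.NO3b.Alpha (Fl)
open Cfsg.Agent.Omega.NO3b.NoEmp (Lines)
open Cfsg.Agent.Omega.NOThreeL.Star (Opt exists_opt)
open Cfsg.Agent.Omega.NO3b.Wc (WC StmtOff cj_sSup)
open Cfsg.Agent.Omega.NO3b.Exit (MaxBad WW_cj WW_pgroup wc_S_le frattini offM_of_opt offM_of_max pan char2_of_loc)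
open Cfsg.Agent.Omega.NO3b.Exit.Bridge
open Cfsg.Agent.Omega.NO3b.Exit (LocBar.im_mono LocBar.im_smul LocBar.im_conj LocBar.im_fix LocBar.isPGroup_im
  LocBar.syl_im LocBar.pr_mem_im)
open Cfsg.Agent.Omega.NO3b.Exit.TDat (MX Red mx_of_tight sbc FFq ncl KV)
open Cfsg.Agent.Omega.NO3b.Exit.BlkZ (Blk0)
open Cfsg.Agent.Omega.NO3b.Exit.TBlk (sn_sbc_of_le)
open Cfsg.Agent.Omega.NO3b.BetaTwo (JB NB_le_JB X_le_JB)
open Cfsg.Agent.Omega.NO3b.K0.Mix (Pan)
open Cfsg.Agent.Omega.FFBr (XX pr im mem_im)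
open Cfsg.Agent.Omega.FF.Basic (fx)
open Cfsg.Agent.Omega.NO3b.Exit.TT (nf)
open Cfsg.Agent.MinSimple.VModule (le_normalizer_o2 o2_le oddGen le_o2 mem_normalizer_of_map_le)
open scoped Pointwise

universe u v

/-- The plug `MX → Blk0`. -/
theorem blkMX {Γ : Type u} {U : Type v} [Group Γ] [Finite Γ] [AddCommGroup U] [DistribMulAction Γ U]
    {M X D A : Subgroup Γ} {V F : AddSubgroup U} {g : Γ} (h : MX M X D A V F g) {S : Subgroup Γ} (SM : S ≤ M)
    (S2 : IsPGroup 2 S) (syl : ¬ 2 ∣ S.relIndex M) :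
    Blk0 (sbc M (FFq M F)) (FFq M F) (ncl (KV M V h.MV) A) V F (g • V) (fx U A) g⁻¹ M (KV M V h.MV) S where
  dat := h.dat
  KM := fun _ hk => hk.1
  nK := fun _ hm _ hk => h.KV_norm hm hk
  mV := h.MV
  kV := fun _ hk => hk.2
  kB := fun _ hk _ hb => NO3b.Exit.TDat.ncl_conj hk hb
  sn := sn_sbc_of_le MX.FFq_le_M h.sbc_le_KV fun _ hk => hk.1
  SM := SM
  S2 := S2
  syl := syl

variable {G : Type u} [Group G] [Finite G] {S : Sylow 2 G} {Y L B J F T X : Subgroup G}

namespace Adm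

section one

variable (a : Adm S Y L B) (hc : IsCharacteristicTwoType G) (hM : normalizer (B : Set G) ≤ J)
  (hYz : Y ≤ zc (o2 J)) (f : Fl S (VB Y B) F T) (p : Par (VB Y B) F T X) (hX : X ≤ J)

omit [Finite G] in
/-- `V ≤ ⟨Y^J⟩` -/
theorem V_leJ (hM : normalizer (B : Set G) ≤ J) : VB Y B ≤ cl Y J := cl_mono _ hM

include a hc hM hYz f p hX

/-- the panel acts on `⟨Y^J⟩` -/
theorem sitJ : Sit (VB Y B) F T X (cl Y J) :=
  Sit.of_fl hc a.lines f p (cl_cent hYz) (cl_sq hYz) (V_leJ hM) (hX.trans (le_normalizer_cl _ _))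

/-- **the M-side frame for every line moved by `A`** -/
theorem mxJ {A : Subgroup G} (hA : Opt (cl Y J) A) (hAB : A ≤ B) (hAX : ¬ A ≤ o2 X)
    (h2 : K0.Mix.Two (VB Y B) X)
    (hred : Red (im (le_normalizer_cl Y J) (normalizer (B : Set G))) (ad (cl_cent hYz) (VB Y B)))
    {x : ↥(im (le_normalizer_cl Y J) X)}
    (hx : ¬ imx (le_normalizer_cl Y J) X A ≤ nf _ (sm x (ad (cl_cent hYz) (VB Y B)))) :
    MX (im (le_normalizer_cl Y J) (normalizer (B : Set G))) (im (le_normalizer_cl Y J) X)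
      (im (le_normalizer_cl Y J) B) (im (le_normalizer_cl Y J) A)
      (ad (cl_cent hYz) (VB Y B)) (ad (cl_cent hYz) F) (x : XX (le_normalizer_cl Y J)) := by
  have s := a.sitJ hc hM hYz f p hX
  obtain ⟨P, hP⟩ := s.exists_syl (le_normalizer_cl Y J) hX
  have hBT : B ≤ T := by
    have hQ := f.Q0_le
    rwa [a.cs] at hQ
  have hAT : A ≤ T := hAB.trans hBT
  have hAXX : A ≤ X := hAT.trans s.syl.1
  have e : (imx (le_normalizer_cl Y J) X A).map (im (le_normalizer_cl Y J) X).subtype =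
      im (le_normalizer_cl Y J) A := by
    unfold imx
    rw [subgroupOf_map_subtype]
    exact inf_eq_left.2 (LocBar.im_mono _ hAXX)
  have hSM : (S : Subgroup G) ≤ normalizer (B : Set G) := wc_S_le a.wc
  have key := mx_of_tight (faith (hc := s.cm) (le_normalizer_cl Y J))
    (s.datU (le_normalizer_cl Y J) hX hP)
    (s.mbu (le_normalizer_cl Y J) hX hA hAT hAX) (by
      intro h0
      refine s.two_ne hA hAT hAX h2 fun b hb => ?_
      have h1 : phi (le_normalizer_cl Y J) hX ⟨b, hAXX hb.1⟩ ∈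
          imx (le_normalizer_cl Y J) X A ⊓ pCore 2 ↥(im (le_normalizer_cl Y J) X) :=
        ⟨phi_mem_imx _ hX hb.1, (s.mem_core_iff _ hX (hAT hb.1)).2 hb.2⟩
      rw [h0, mem_bot] at h1
      exact (phi_eq_one _ hX).1 h1)
    (M := im (le_normalizer_cl Y J) (normalizer (B : Set G)))
    (D := im (le_normalizer_cl Y J) B)
    (fun m hm v hv => LocBar.im_smul _ (le_normalizer_cl _ _) hm hv)
    (LocBar.im_mono _ (hBT.trans s.syl.1)) (by rw [e]; exact LocBar.im_mono _ hAB)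
    (fun m hm d hd => LocBar.im_conj _ (by rfl) hm hd)
    (fun d hd v hv => LocBar.im_fix _ a.lines.JV hd hv) (by
      rw [← s.core_eq (le_normalizer_cl Y J) hX]
      unfold imx
      rw [subgroupOf_map_subtype]
      refine inf_le_left.trans (LocBar.im_mono _ ?_)
      exact (o2_le_syl s.syl).trans (f.T_le.trans hSM)) hred hx
  rwa [e] at key

/-- the M-side frame for some line -/
theorem exists_mxJ {A : Subgroup G} (hA : Opt (cl Y J) A) (hAB : A ≤ B) (hAX : ¬ A ≤ o2 X)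
    (h2 : K0.Mix.Two (VB Y B) X)
    (hred : Red (im (le_normalizer_cl Y J) (normalizer (B : Set G))) (ad (cl_cent hYz) (VB Y B))) :
    ∃ x : XX (le_normalizer_cl Y J), x ∈ im (le_normalizer_cl Y J) X ∧
      MX (im (le_normalizer_cl Y J) (normalizer (B : Set G))) (im (le_normalizer_cl Y J) X)
        (im (le_normalizer_cl Y J) B) (im (le_normalizer_cl Y J) A)
        (ad (cl_cent hYz) (VB Y B)) (ad (cl_cent hYz) F) x := by
  have s := a.sitJ hc hM hYz f p hX
  have hBT : B ≤ T := by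
    have hQ := f.Q0_le
    rwa [a.cs] at hQ
  obtain ⟨x, hx⟩ := (s.tight (le_normalizer_cl Y J) hX hA (hAB.trans hBT) hAX).ex
  exact ⟨x, x.2, a.mxJ hc hM hYz f p hX hA hAB hAX h2 hred hx⟩

omit hYz f p hX hc in
/-- `|N_G(B) : S|` is odd in the module `⟨Y^J⟩` -/
theorem syl_imJ :
    ¬ 2 ∣ (im (le_normalizer_cl Y J) (S : Subgroup G)).relIndex
      (im (le_normalizer_cl Y J) (normalizer (B : Set G))) :=
  syl_not_dvd (LocBar.syl_im _ (syl_of_le (wc_S_le a.wc)) hM)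

/-- **the blocks of `V` in `⟨Y^J⟩`** -/
theorem blkJ {A : Subgroup G} (hA : Opt (cl Y J) A) (hAB : A ≤ B) (hAX : ¬ A ≤ o2 X)
    (h2 : K0.Mix.Two (VB Y B) X)
    (hred : Red (im (le_normalizer_cl Y J) (normalizer (B : Set G))) (ad (cl_cent hYz) (VB Y B))) :
    ∃ x : XX (le_normalizer_cl Y J), x ∈ im (le_normalizer_cl Y J) X ∧
      ∃ m : MX (im (le_normalizer_cl Y J) (normalizer (B : Set G))) (im (le_normalizer_cl Y J) X)
        (im (le_normalizer_cl Y J) B) (im (le_normalizer_cl Y J) A)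
        (ad (cl_cent hYz) (VB Y B)) (ad (cl_cent hYz) F) x,
      Blk0 (sbc (im (le_normalizer_cl Y J) (normalizer (B : Set G)))
          (FFq (im (le_normalizer_cl Y J) (normalizer (B : Set G))) (ad (cl_cent hYz) F)))
        (FFq (im (le_normalizer_cl Y J) (normalizer (B : Set G))) (ad (cl_cent hYz) F))
        (ncl (KV (im (le_normalizer_cl Y J) (normalizer (B : Set G))) (ad (cl_cent hYz) (VB Y B)) m.MV)
          (im (le_normalizer_cl Y J) A))
        (ad (cl_cent hYz) (VB Y B)) (ad (cl_cent hYz) F) (x • ad (cl_cent hYz) (VB Y B))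
        (fx (MU (cl_cent hYz)) (im (le_normalizer_cl Y J) A)) x⁻¹
        (im (le_normalizer_cl Y J) (normalizer (B : Set G)))
        (KV (im (le_normalizer_cl Y J) (normalizer (B : Set G))) (ad (cl_cent hYz) (VB Y B)) m.MV)
        (im (le_normalizer_cl Y J) (S : Subgroup G)) := by
  obtain ⟨x, hx, m⟩ := a.exists_mxJ hc hM hYz f p hX hA hAB hAX h2 hred
  exact ⟨x, hx, m, blkMX m (LocBar.im_mono _ (wc_S_le a.wc)) (LocBar.isPGroup_im _ S.isPGroup')
    (a.syl_imJ hM)⟩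

end one

/-! ### a family of panels -/

section fam

variable {ι : Type v} {F T X : ι → Subgroup G}

theorem S_leJB (a : Adm S Y L B) : (S : Subgroup G) ≤ JB B X := (wc_S_le a.wc).trans NB_le_JB

/-- **an optimal offender of `⟨Y^J⟩` in `B`, not in `O₂(X i)` for some `i`** -/
theorem exists_optJ (a : Adm S Y L B) (hc : IsCharacteristicTwoType G)
    (f : ∀ i, Fl S (VB Y B) (F i) (T i)) (p : ∀ i, Par (VB Y B) (F i) (T i) (X i))
    (hYz : Y ≤ zc (o2 (JB B X))) (hff : ¬ NotFF (cl Y (JB B X))) :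
    ∃ A : Subgroup G, Opt (cl Y (JB B X)) A ∧ A ≤ B ∧ ∃ i, ¬ A ≤ o2 (X i) := by
  set V := VB Y B with hVd
  set J := JB B X with hJ
  have l := a.lines
  have hMJ : normalizer (B : Set G) ≤ J := NB_le_JB
  have hXJ : ∀ i, X i ≤ J := X_le_JB
  have hSJ : (S : Subgroup G) ≤ J := a.S_leJB
  have pn : ∀ i, Pan V (F i) (T i) (X i) (normalizer (B : Set G)) B := fun i => by
    have h1 := pan (f i) l (p i) fun g hg => Alpha.ti hc l g hg
    rwa [a.cs] at h1
  have hBT : ∀ i, B ≤ T i := fun i => by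
    have hQ := (f i).Q0_le
    rwa [a.cs] at hQ
  have hVc := cl_cent hYz
  have hVJ : V ≤ cl Y J := V_leJ hMJ
  have hUH : ∀ i, cl V (X i) ≤ cl Y J := fun i => cl_le' hVJ ((hXJ i).trans (le_normalizer_cl _ _))
  -- best offenders centralise `V`
  have hAV : ∀ A, Opt (cl Y J) A → A ≤ (S : Subgroup G) → A ≤ B := by
    intro A hA hAS
    refine le_trans (le_inf hAS ?_) a.cs.le
    by_contra hne
    have hoff := offM_of_opt hA hVc hVJ hne
    have h3 := a.nff A hA.pg (hAS.trans a.lines.S_le) hoff.sq hoff.comm hne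
    exact absurd (FFThm.relIndex_le_iff.1 hoff.le) (not_le.2 h3)
  have hQB : (S : Subgroup G) ⊓ centralizer (cl Y J : Set G) ≤ B :=
    (inf_le_inf_left _ (centralizer_le hVJ)).trans a.cs.le
  obtain ⟨A0, hA0⟩ := exists_opt hff
  obtain ⟨n, hn, hnS⟩ := FFThm.exists_conj_le S (hSJ.trans (le_normalizer_cl _ _)) hA0.pg hA0.norm
  set Fam : Set (Subgroup G) := {D | D = (S : Subgroup G) ⊓ centralizer (cl Y J : Set G) ∨
      Opt (cl Y J) D ∧ D ≤ (S : Subgroup G)} with hFam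
  have hFamB : ∀ D ∈ Fam, D ≤ B := by
    rintro D (rfl | ⟨h1, h2⟩)
    · exact hQB
    · exact hAV D h1 h2
  have hcl : ∀ g ∈ J, (∀ D ∈ Fam, cj g D ≤ (S : Subgroup G)) → ∀ D ∈ Fam, cj g D ≤ sSup Fam := by
    rintro g hg hgS D (rfl | ⟨h1, h2⟩)
    · refine le_trans (le_inf (hgS _ (Or.inl rfl)) ?_) (le_sSup (Or.inl rfl))
      rw [cj_inf, cj_centralizer, cj_eq_of_mem_normalizer (le_normalizer_cl _ _ hg)]
      exact inf_le_right
    · exact le_sSup (a := cj g D) (Or.inr ⟨h1.cj (le_normalizer_cl _ _ hg), hgS D (Or.inr ⟨h1, h2⟩)⟩)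
  have hex : ∃ i, ∃ D ∈ Fam, ¬ D ≤ o2 (X i) := by
    by_contra hcon
    push Not at hcon
    have hKB : sSup Fam ≤ B := sSup_le hFamB
    have hKS : sSup Fam ≤ (S : Subgroup G) := hKB.trans a.wc.le
    have hcl' : ∀ g ∈ J, cj g (sSup Fam) ≤ (S : Subgroup G) → cj g (sSup Fam) ≤ sSup Fam := by
      intro g hg hgS
      rw [cj_sSup]
      exact iSup_le fun D => hcl g hg (fun D hD => (cj_mono g (le_sSup hD)).trans hgS) D D.2
    have hcore : sSup Fam ≤ o2 J := by
      refine le_o2 (hKS.trans hSJ) (S.isPGroup'.to_le hKS) (sup_le ?_ (iSup_le fun i => ?_))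
      · intro m hm
        refine mem_normalizer_of_map_le (hcl' m (hMJ hm) ?_)
        have h1 := cj_mono m hKB
        rw [cj_eq_of_mem_normalizer hm] at h1
        exact h1.trans a.wc.le
      · intro x hx
        refine mem_normalizer_of_map_le (hcl' x (hXJ i hx) ?_)
        have h1 := cj_mono x (sSup_le (hcon i) : sSup Fam ≤ o2 (X i))
        rw [cj_eq_of_mem_normalizer (le_normalizer_o2 _ hx)] at h1
        exact h1.trans ((o2_le_syl ((f i).sylX (p i))).trans (f i).T_le)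
    exact (hA0.cj hn).ne (((le_sSup (a := cj n A0) (Or.inr ⟨hA0.cj hn, hnS⟩)).trans hcore).trans
      (o2_cent hYz))
  obtain ⟨i, D, hD, hDX⟩ := hex
  rcases hD with rfl | ⟨h1, h2⟩
  · exact absurd ((pn i).le_o2_of_cent_U (S.isPGroup'.to_le (hQB.trans a.wc.le))
      ((hQB.trans (hBT i)).trans (p i).T_le) (inf_le_right.trans (centralizer_le (hUH i)))) hDX
  · exact ⟨D, h1, hAV D h1 h2, i, hDX⟩

end fam

end Adm

end Cfsg.Agent.Omega.NO3b.Seed

end

section


/-!
# THEOREM BETA2 for a family of panels, with a seed `Y` (#21336 (A), #20856 (2))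

`BetaTwo/FamAdm.lean`, `BetaTwo/FamMain.lean` with `⟨Y^J⟩ = cl Y J` in place of `V_J`: `B` admissible
(`Adm S Y L B`), `V = VB Y B`, `(F i, T i, X i)` panels of `V` with two noncentral factors, `J = JB B X =
⟨N_G(B), X i⟩` 2-local, `Y ≤ Ω₁(Z(O₂(J)))`, `V'_J = VL S Y (LH S Y J)`:

* `good_adm` : `V ≤ O₂(C_G(D))` for `1 ≠ D ≤ V` (from TI);
* `exists_btF_adm`, `fam_adm` : `⟨Y^J⟩` not FF: `V'_J ≤ O₂(C_G(Z))`;
* `closed_adm` : `V'_J ≤ O₂(C_G(Z))` gives an admissible `B' < B`;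
* `ff_adm` : `B` minimal admissible: `⟨Y^J⟩` is FF.
-/

set_option autoImplicit false
set_option linter.unusedSectionVars false

namespace Cfsg.Agent.Omega.NO3b.Seed

open Subgroup Cfsg
open Cfsg.Agent.ZN (o2 zc zl)
open Cfsg.Agent.ZN.ChoiceBase hiding mem_zc
open Cfsg.Agent.ZN.ChoiceSit (o2_le_syl)
open Cfsg.Agent.Omega.NO3b.EZero (NotFF Par cent_symm cj_cent cl le_cl cj_le_cl cl_le le_normalizer_cl)
open Cfsg.Agent.Omega.NO3b.Alpha (Fl)
open Cfsg.Agent.Omega.NO3b.Wc (WC StmtOff cj_sSup)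
open Cfsg.Agent.Omega.NO3b.Exit (MaxBad WW_cj WW_pgroup wc_S_le pan char2_of_loc sm)
open Cfsg.Agent.Omega.NO3b.BetaTwo (JB NB_le_JB X_le_JB BtF noOver_of)
open Cfsg.Agent.Omega.NO3b.K0.Mix (Pan SM Two)
open Cfsg.Agent.Omega.NOne.Flat (EE WW NN)
open Cfsg.Agent.MinSimple.VModule (le_normalizer_o2 le_o2 mem_normalizer_of_map_le)

universe u v

variable {G : Type u} [Group G] [Finite G] {S : Sylow 2 G} {Y L B : Subgroup G} {ι : Type v}
  {F T X : ι → Subgroup G}

/-- `V ≤ O₂(C_G(D))` for `1 ≠ D ≤ V` -/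
theorem good_adm (a : Adm S Y L B) (hc : IsCharacteristicTwoType G) {D : Subgroup G}
    (hD : D ≤ VB Y B) (hD1 : D ≠ ⊥) : VB Y B ≤ o2 (centralizer (D : Set G)) := by
  set V := VB Y B with hV
  have l := a.lines
  have hVD : ∀ y ∈ centralizer (D : Set G), D ≤ cj y V := by
    intro y hy d hd
    have h1 := mem_centralizer_iff.1 hy d hd
    rw [mem_cj, mul_assoc, h1, inv_mul_cancel_left]
    exact hD hd
  have hcm : ∀ y ∈ centralizer (D : Set G), ∀ z ∈ centralizer (D : Set G),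
      cj y V ≤ centralizer ((cj z V : Subgroup G) : Set G) := by
    intro y hy z hz
    have h1 := Alpha.ti hc l (y⁻¹ * z) (by
      intro h0
      apply hD1
      rw [← le_bot_iff, ← h0]
      exact le_inf hD (hVD _ (mul_mem (inv_mem hy) hz)))
    have h2 := cj_cent (g := y) h1
    rwa [cj_cj, mul_inv_cancel_left] at h2
  have hUc : cl V (centralizer (D : Set G)) ≤ centralizer (cl V (centralizer (D : Set G)) : Set G) :=
    cl_le fun _ hy => cent_symm (cl_le fun _ hz => hcm _ hz _ hy)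
  have hsq : ∀ u ∈ cl V (centralizer (D : Set G)), u ^ 2 = 1 := by
    refine EZero.sq_of_comm hUc (fun i : centralizer (D : Set G) => cj_le_cl i.2) le_rfl fun i v hv => ?_
    have h1 := l.sq _ (mem_cj.1 hv)
    have e : v ^ 2 = i * ((i : G)⁻¹ * v * i) ^ 2 * (i : G)⁻¹ := by rw [pow_two, pow_two]; group
    rw [e, h1]; group
  have hle : cl V (centralizer (D : Set G)) ≤ centralizer (D : Set G) := by
    refine cl_le fun y hy => ?_
    have h1 : V ≤ centralizer (D : Set G) := l.comm.trans (centralizer_le hD)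
    have h2 := cj_mono y h1
    rwa [K0.cj_self hy] at h2
  exact (le_cl V _).trans (le_o2 hle (NoEmp.pgroup_of_sq hsq) (le_normalizer_cl _ _))

theorem good_adm_cj (a : Adm S Y L B) (hc : IsCharacteristicTwoType G) (g : G) (D : Subgroup G)
    (hD : D ≤ cj g (VB Y B)) (hD1 : D ≠ ⊥) : cj g (VB Y B) ≤ o2 (centralizer (D : Set G)) := by
  have h1 := good_adm a hc (D := cj g⁻¹ D) (by
    have h1 := cj_mono g⁻¹ hD
    rwa [cj_inv_cj] at h1) (fun h0 => hD1 (by
    have h1 := congrArg (cj g) h0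
    rwa [cj_cj_inv, K0.cj_bot'] at h1))
  have h2 := cj_mono g h1
  rwa [← Cfsg.Agent.ZN.ChoiceBase.pCore_cj, cj_centralizer, cj_cj_inv] at h2

section

variable (a : Adm S Y L B) (hc : IsCharacteristicTwoType G)
  (f : ∀ i, Fl S (VB Y B) (F i) (T i))
  (p : ∀ i, Par (VB Y B) (F i) (T i) (X i))
  (hYz : Y ≤ zc (o2 (JB B X)))
  (hloc : ∃ R : Subgroup G, R ≠ ⊥ ∧ IsPGroup 2 R ∧ JB B X ≤ normalizer (R : Set G))
include a hc hYz hloc

omit hc hYz hloc in
theorem S_le_JB : (S : Subgroup G) ≤ JB B X := (wc_S_le a.wc).trans NB_le_JB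

omit hYz in
theorem char2_JB : JB B X ⊓ centralizer (o2 (JB B X) : Set G) ≤ o2 (JB B X) := by
  obtain ⟨R, hR, hR2, hJR⟩ := hloc
  exact char2_of_loc hc (S_le_JB a) hR2 hR hJR

omit a hc hYz hloc in
theorem V_le_clJB : VB Y B ≤ cl Y (JB B X) := cl_mono _ NB_le_JB

omit a hc hYz hloc in
theorem cl_le_clJB : cl (VB Y B) (JB B X) ≤ cl Y (JB B X) := cl_le' V_le_clJB (le_normalizer_cl _ _)

omit hc hloc in
theorem clJB_le_V' (hn : NotFF (cl Y (JB B X))) :
    cl Y (JB B X) ≤ VL (S : Subgroup G) Y (LH (S : Subgroup G) Y (JB B X)) := by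
  have h1 := (root_LH (S_le_JB a) hYz a.ZY hn).cl_le_V
  rwa [cl_LH (S_le_JB a)] at h1

omit hc hYz hloc in
theorem WH_le_JB : WH (S : Subgroup G) Y (LH (S : Subgroup G) Y (JB B X)) ≤
    (S : Subgroup G) ⊓ centralizer (cl Y (JB B X) : Set G) := by
  have h1 := WH_le (S : Subgroup G) Y (LH (S : Subgroup G) Y (JB B X))
  unfold QL at h1
  rwa [cl_LH (S_le_JB a)] at h1

omit hc hYz hloc in
theorem WH_le_B_JB : WH (S : Subgroup G) Y (LH (S : Subgroup G) Y (JB B X)) ≤ B :=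
  ((WH_le_JB a).trans (inf_le_inf_left _ (centralizer_le V_le_clJB))).trans a.cs.le

include f p

omit hc hloc in
/-- `V'_J ≤ O₂(C_G(Z))`: a smaller admissible subgroup. -/
theorem closed_adm [hι : Nonempty ι] (hn : NotFF (cl Y (JB B X)))
    (hV : VL (S : Subgroup G) Y (LH (S : Subgroup G) Y (JB B X)) ≤
      o2 (centralizer (zc (S : Subgroup G) : Set G))) :
    Adm S Y L (WH (S : Subgroup G) Y (LH (S : Subgroup G) Y (JB B X))) ∧
      WH (S : Subgroup G) Y (LH (S : Subgroup G) Y (JB B X)) ≤ B ∧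
      WH (S : Subgroup G) Y (LH (S : Subgroup G) Y (JB B X)) ≠ B := by
  have h := root_LH (S_le_JB a) hYz a.ZY hn
  have h1 := Adm.of_root h hV
  refine ⟨⟨a.ZY, h1.wc, (WH_le_B_JB a).trans a.le, h1.cs, h1.comm, h1.sq, h1.nff, h1.low⟩, WH_le_B_JB a,
    fun h0 => ?_⟩
  obtain ⟨i⟩ := hι
  apply (p i).nle
  have h2 : cl Y (JB B X) ≤ VB Y B := by
    have h3 := clJB_le_V' a hYz hn
    have h4 : VL (S : Subgroup G) Y (LH (S : Subgroup G) Y (JB B X)) =
        VB Y (WH (S : Subgroup G) Y (LH (S : Subgroup G) Y (JB B X))) := rfl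
    rwa [h4, h0] at h3
  have h3 : cl Y (JB B X) = VB Y B := le_antisymm h2 V_le_clJB
  have h4 := (X_le_JB (B := B) (X := X) i).trans (le_normalizer_cl Y (JB B X))
  rwa [h3] at h4

theorem exists_btF_adm (h2 : ∀ i, Two (VB Y B) (X i)) (hSne : (S : Subgroup G) ≠ ⊥)
    (hn : NotFF (cl Y (JB B X)))
    (hV : ¬ VL (S : Subgroup G) Y (LH (S : Subgroup G) Y (JB B X)) ≤
      o2 (centralizer (zc (S : Subgroup G) : Set G))) :
    ∃ F₁ : Subgroup G, BtF (VB Y B) F T X (normalizer (B : Set G)) B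
      (VL (S : Subgroup G) Y (LH (S : Subgroup G) Y (JB B X))) F₁ ∧
      ¬ cl (VB Y B) (JB B X) ≤
        EE (VL (S : Subgroup G) Y (LH (S : Subgroup G) Y (JB B X))) F₁ ∧
      cl (VB Y B) (JB B X) ≤ VL (S : Subgroup G) Y (LH (S : Subgroup G) Y (JB B X)) := by
  set V := VB Y B with hVd
  set J := JB B X with hJ
  set V' := VL (S : Subgroup G) Y (LH (S : Subgroup G) Y J) with hV'
  have l := a.lines
  have hOff := Final.stmtOff G
  have hMJ : normalizer (B : Set G) ≤ J := NB_le_JB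
  have hXJ : ∀ i, X i ≤ J := X_le_JB
  have hSJ : (S : Subgroup G) ≤ J := S_le_JB a
  have char2 : J ⊓ centralizer (o2 J : Set G) ≤ o2 J := char2_JB a hc hloc
  have pn : ∀ i, Pan V (F i) (T i) (X i) (normalizer (B : Set G)) B := fun i => by
    have h1 := pan (f i) l (p i) fun g hg => Alpha.ti hc l g hg
    rwa [a.cs] at h1
  have hBT : ∀ i, B ≤ T i := fun i => by
    have hQ := (f i).Q0_le
    rwa [a.cs] at hQ
  have root : Root S Y (LH (S : Subgroup G) Y J) := root_LH hSJ hYz a.ZY hn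
  have hle : cl Y J ≤ V' := clJB_le_V' a hYz hn
  have hVJ : V ≤ cl Y J := V_le_clJB
  have hVH : cl V J ≤ cl Y J := cl_le_clJB
  have hHV : cl Y J ≤ cl V J := cl_mono_left _ (le_cl _ _)
  have hUH : ∀ i, cl V (X i) ≤ cl Y J := fun i => cl_le fun x hx =>
    (cj_le_cl (V := V) (hXJ i hx)).trans hVH
  -- `W_F ≤ S` implies `W_F ≤ B`
  have hWB : ∀ F, MaxBad V' F → WW V' F ≤ (S : Subgroup G) → WW V' F ≤ B := by
    intro F hF hFS
    refine le_trans (le_inf hFS ?_) a.cs.le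
    by_contra hne
    have hoff := off_of hc hOff root hF hFS (hVJ.trans hle) a.low hne
    have h3 := a.nff _ (WW_pgroup _ _) (hFS.trans a.lines.S_le) hoff.sq hoff.comm hne
    exact absurd (FFThm.relIndex_le_iff.1 hoff.le) (not_le.2 h3)
  have hWHle := WH_le_JB a (X := X)
  have hWHB := WH_le_B_JB a (X := X)
  obtain ⟨F0, hF0, hS0, hne0⟩ := exists_WW hc hSne root hV
  rw [cl_LH hSJ] at hne0
  set Fam : Set (Subgroup G) := {D | D = WH (S : Subgroup G) Y (LH (S : Subgroup G) Y J) ∨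
      ∃ F, MaxBad V' F ∧ WW V' F = D ∧ WW V' F ≤ (S : Subgroup G)} with hFam
  have hFamB : ∀ D ∈ Fam, D ≤ B := by
    rintro D (rfl | ⟨F, hF, rfl, hFS⟩)
    · exact hWHB
    · exact hWB F hF hFS
  have hcl : ∀ g ∈ J, (∀ D ∈ Fam, cj g D ≤ (S : Subgroup G)) → ∀ D ∈ Fam, cj g D ≤ sSup Fam := by
    intro g hg hgS
    have hgM : g ∈ ML (S : Subgroup G) Y (LH (S : Subgroup G) Y J) := mem_ML_of_le (hgS _ (Or.inl rfl))
    rintro D (rfl | ⟨F, hF, rfl, hFS⟩)
    · rw [cj_eq_of_mem_normalizer hgM]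
      exact le_sSup (Or.inl rfl)
    · have h1 := WW_cj (F := F) (ML_le_norm_V _ _ _ hgM)
      have h3 := hgS _ (Or.inr ⟨F, hF, rfl, hFS⟩)
      rw [← h1] at h3 ⊢
      exact le_sSup (Or.inr ⟨cj g F, hF.cj (ML_le_norm_V _ _ _ hgM), rfl, h3⟩)
  have hex : ∃ i, ∃ D ∈ Fam, ¬ D ≤ o2 (X i) := by
    by_contra hcon
    push Not at hcon
    have hKB : sSup Fam ≤ B := sSup_le hFamB
    have hKS : sSup Fam ≤ (S : Subgroup G) := hKB.trans a.wc.le
    have hcl' : ∀ g ∈ J, cj g (sSup Fam) ≤ (S : Subgroup G) → cj g (sSup Fam) ≤ sSup Fam := by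
      intro g hg hgS
      rw [cj_sSup]
      exact iSup_le fun D => hcl g hg (fun D hD => (cj_mono g (le_sSup hD)).trans hgS) D D.2
    have hcore : sSup Fam ≤ o2 J := by
      refine le_o2 (hKS.trans hSJ) (S.isPGroup'.to_le hKS) (sup_le ?_ (iSup_le fun i => ?_))
      · intro m hm
        refine mem_normalizer_of_map_le (hcl' m (hMJ hm) ?_)
        have h1 := cj_mono m hKB
        rw [cj_eq_of_mem_normalizer hm] at h1
        exact h1.trans a.wc.le
      · intro x hx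
        refine mem_normalizer_of_map_le (hcl' x (hXJ i hx) ?_)
        have h1 := cj_mono x (sSup_le (hcon i) : sSup Fam ≤ o2 (X i))
        rw [cj_eq_of_mem_normalizer (le_normalizer_o2 _ hx)] at h1
        exact h1.trans ((o2_le_syl ((f i).sylX (p i))).trans (f i).T_le)
    exact hne0 (((le_sSup (a := WW V' F0) (Or.inr ⟨F0, hF0, rfl, hS0⟩)).trans hcore).trans (o2_cent hYz))
  obtain ⟨i, D, hD, hDX⟩ := hex
  have hcen : ∀ D, D ≤ B → D ≤ centralizer (cl Y J : Set G) → D ≤ o2 (X i) := fun D hDB hDc =>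
    (pn i).le_o2_of_cent_U (S.isPGroup'.to_le (hDB.trans a.wc.le)) ((hDB.trans (hBT i)).trans (p i).T_le)
      (hDc.trans (centralizer_le (hUH i)))
  rcases hD with rfl | ⟨F₁, hF₁, rfl, hFS⟩
  · exact absurd (hcen _ hWHB (hWHle.trans inf_le_right)) hDX
  have hWB₁ := hWB F₁ hF₁ hFS
  have hy : NOne.Flat.Hyp V' F₁ := hyp_of hc root hF₁
  refine ⟨F₁, ?_, fun h0 => ?_, hVH.trans hle⟩
  · exact
      { pan := pn
        noov := fun i => K0.noOv FFBr.aStmt ((f i).sylX (p i)) ((f i).isMinPar l (p i))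
        sm := fun i => sm l hc (pn i)
        two := h2
        hno := fun i => noOver_of (Exit.Bridge.Sit.of_fl hc l (f i) (p i) (pn i).U_comm (pn i).U_sq (le_cl _ _)
          (le_normalizer_cl _ _))
        hy := hy
        hoff := hOff _ _ hy
        good := good_adm_cj a hc
        WQ := hWB₁
        WX := ⟨i, hDX⟩
        UV := fun i => (hUH i).trans hle }
  · -- `W` centralises `⟨Y^J⟩`
    have h1 : cl Y J ≤ EE V' F₁ := hHV.trans h0
    have h3 := hy.off_of_le (hOff _ _ hy) h1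
    have hW2 : IsPGroup 2 (WW V' F₁) := WW_pgroup _ _
    have hWH : WW V' F₁ ≤ normalizer (cl Y J : Set G) :=
      ((hWB₁.trans a.wc.le).trans hSJ).trans (le_normalizer_cl _ _)
    obtain ⟨e1, e2⟩ := hy.elem_W hle
    by_cases hcen' : WW V' F₁ ≤ centralizer (cl Y J : Set G)
    · exact hDX (hcen _ hWB₁ hcen')
    · have h4 := hn (WW V' F₁) hW2 hWH (fun s hs => by rw [pow_two]; exact e2 s hs)
        (fun s hs t ht => e1 s hs t ht) hcen'
      exact absurd h3 (not_le.2 h4)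

variable (h2 : ∀ i, Two (VB Y B) (X i)) (hSne : (S : Subgroup G) ≠ ⊥)
include h2 hSne

/-- **THEOREM BETA2 for a family**, for an admissible `B` -/
theorem fam_adm (hn : NotFF (cl Y (JB B X))) :
    VL (S : Subgroup G) Y (LH (S : Subgroup G) Y (JB B X)) ≤
      o2 (centralizer (zc (S : Subgroup G) : Set G)) := by
  by_contra hV
  obtain ⟨F₁, t, h1, h3⟩ := exists_btF_adm a hc f p hYz hloc h2 hSne hn hV
  exact t.false (H := JB B X) (sup_le le_sup_right le_sup_left) NB_le_JB X_le_JB h1 h3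

/-- `B` minimal admissible: `⟨Y^J⟩` is FF for every nonempty family of panels with two noncentral factors. -/
theorem ff_adm [Nonempty ι] (hmin : ∀ B', Adm S Y L B' → B' ≤ B → B' = B) :
    ¬ NotFF (cl Y (JB B X)) := by
  intro hn
  obtain ⟨h1, h3, h4⟩ := closed_adm a f p hYz hn (fam_adm a hc f p hYz hloc h2 hSne hn)
  exact h4 (hmin _ h1 h3)

end

/-- `J = ⟨N_G(B), X i⟩` is 2-local. -/
theorem loc_fam (a : Adm S Y L B) (hc : IsCharacteristicTwoType G) [Nonempty ι]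
    (f : ∀ i, Fl S (VB Y B) (F i) (T i)) (p : ∀ i, Par (VB Y B) (F i) (T i) (X i))
    (h2 : ∀ i, Two (VB Y B) (X i)) :
    ∃ R : Subgroup G, R ≠ ⊥ ∧ IsPGroup 2 R ∧ JB B X ≤ normalizer (R : Set G) := by
  obtain ⟨R, hR, hR2, h3, h4⟩ := Exit.exists_loc_fam FFBr.aStmt hc a.lines F T X f p h2
  rw [a.cs] at h3
  exact ⟨R, hR, hR2, sup_le h3 (iSup_le h4)⟩

end Cfsg.Agent.Omega.NO3b.Seed

end

section


/-!
# The chain with a seed `Y`: the panels of `V` as a system `PanSys` (#20856 (2), #22211)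

`B` admissible (`Adm S Y L B`), `V = VB Y B`, `(F i, T i, X i)` panels of `V` with two noncentral factors.

* `Adm.blkIn` : one panel, in the module `⟨Y^J⟩`, `J ≥ N_G(B), X`, for an optimal offender `A ≤ B`, `A ≰ O₂(X)`;
* `Adm.panSys` : if `⟨Y^J⟩` is FF for `J = ⟨N_G(B), X i, X j⟩` and all `i`, `j` then the panels form a `PanSys`.
-/

set_option autoImplicit false

namespace Cfsg.Agent.Omega.NO3b.Seed

open Subgroup Cfsg
open Cfsg.Agent.ZN (o2 zc zl jj zj)
open Cfsg.Agent.ZN.ChoiceBase hiding mem_zc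
open Cfsg.Agent.Omega.NO3b.EZero (NotFF Par cl le_cl cj_le_cl cl_le le_normalizer_cl)
open Cfsg.Agent.Omega.NO3b.Alpha (Fl)
open Cfsg.Agent.Omega.NOThreeL.Star (Opt exists_opt)
open Cfsg.Agent.Omega.NO3b.Exit (wc_S_le)
open Cfsg.Agent.Omega.NO3b.Exit.Bridge
open Cfsg.Agent.Omega.NO3b.Exit.TDat (Red)
open Cfsg.Agent.Omega.NO3b.BetaTwo (JB)
open Cfsg.Agent.Omega.NO3b.BasePt (BlkIn blkIn_of_mx PanSys)
open Cfsg.Agent.Omega.FFBr (XX im)

universe u v

variable {G : Type u} [Group G] [Finite G] {S : Sylow 2 G} {Y L B : Subgroup G}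

namespace Adm

section one

variable {J F T X : Subgroup G} (a : Adm S Y L B) (hc : IsCharacteristicTwoType G)
  (hM : normalizer (B : Set G) ≤ J) (hYz : Y ≤ zc (o2 J)) (f : Fl S (VB Y B) F T) (p : Par (VB Y B) F T X)
  (hX : X ≤ J)
include a hc hM hYz f p hX

/-- **the blocks of `V` in `⟨Y^J⟩`** -/
theorem blkIn {A : Subgroup G} (hA : Opt (cl Y J) A) (hAB : A ≤ B) (hAX : ¬ A ≤ o2 X)
    (h2 : K0.Mix.Two (VB Y B) X)
    (hred : Red (im (le_normalizer_cl Y J) (normalizer (B : Set G))) (ad (cl_cent hYz) (VB Y B))) :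
    BlkIn (S : Subgroup G) (VB Y B) (normalizer (B : Set G)) F (le_normalizer_cl Y J) (cl_cent hYz) := by
  obtain ⟨x, -, m⟩ := a.exists_mxJ hc hM hYz f p hX hA hAB hAX h2 hred
  exact blkIn_of_mx m (wc_S_le a.wc) S.isPGroup' (a.syl_imJ hM)

end one

section fam

variable {ι : Type v} {F T X : ι → Subgroup G}

/-- **the panels form a system** -/
theorem panSys (a : Adm S Y L B) (hc : IsCharacteristicTwoType G)
    (f : ∀ i, Fl S (VB Y B) (F i) (T i)) (p : ∀ i, Par (VB Y B) (F i) (T i) (X i))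
    (h2 : ∀ i, K0.Mix.Two (VB Y B) (X i))
    (hY : ∀ i j, Y ≤ zc (o2 (normalizer (B : Set G) ⊔ (X i ⊔ X j))))
    (hff : ∀ i j, ¬ NotFF (cl Y (normalizer (B : Set G) ⊔ (X i ⊔ X j))))
    (hred : ∀ {U H : Subgroup G} (hH : H ≤ normalizer (U : Set G)) (hU : U ≤ centralizer (U : Set G)),
      normalizer (B : Set G) ≤ H → VB Y B ≤ U → Red (im hH (normalizer (B : Set G))) (ad hU (VB Y B))) :
    PanSys (S : Subgroup G) (VB Y B) (normalizer (B : Set G)) F
      (fun i => cl Y (normalizer (B : Set G) ⊔ X i)) (fun i => normalizer (B : Set G) ⊔ X i) := by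
  have hY1 : ∀ i, Y ≤ zc (o2 (normalizer (B : Set G) ⊔ X i)) := fun i => by
    have h1 := hY i i
    rwa [sup_idem] at h1
  have hff1 : ∀ i, ¬ NotFF (cl Y (normalizer (B : Set G) ⊔ X i)) := fun i => by
    have h1 := hff i i
    rwa [sup_idem] at h1
  refine
    { hH := fun i => le_normalizer_cl _ _
      hU := fun i => cl_cent (hY1 i)
      VU := fun i => V_leJ le_sup_left
      MH := fun i => le_sup_left
      FV := fun i => (f i).le
      one := fun i => ?_
      two := fun i j => ?_ }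
  · obtain ⟨A, hA, hAB, -, hAX⟩ := a.exists_optJ (ι := Unit) (F := fun _ => F i) (T := fun _ => T i)
      (X := fun _ => X i) hc (fun _ => f i) (fun _ => p i)
      (by rw [JB, iSup_const]; exact hY1 i) (by rw [JB, iSup_const]; exact hff1 i)
    rw [JB, iSup_const] at hA
    exact a.blkIn hc le_sup_left (hY1 i) (f i) (p i) le_sup_right hA hAB hAX (h2 i)
      (hred _ _ le_sup_left (V_leJ le_sup_left))
  · have e : JB B (fun b : Bool => if b then X i else X j) = normalizer (B : Set G) ⊔ (X i ⊔ X j) := by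
      rw [JB, iSup_bool_eq]
      rfl
    obtain ⟨A, hA, hAB, b, hAX⟩ := a.exists_optJ (ι := Bool) (F := fun b => if b then F i else F j)
      (T := fun b => if b then T i else T j) (X := fun b => if b then X i else X j) hc
      (by rintro (_ | _); exacts [f j, f i]) (by rintro (_ | _); exacts [p j, p i])
      (by rw [e]; exact hY i j) (by rw [e]; exact hff i j)
    rw [e] at hA
    refine ⟨_, _, le_normalizer_cl Y _, cl_cent (hY i j), cl_mono _ (sup_le_sup_left le_sup_left _),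
      cl_mono _ (sup_le_sup_left le_sup_right _), le_sup_left, ?_⟩
    rcases b with _ | _
    · exact Or.inr (a.blkIn hc le_sup_left (hY i j) (f j) (p j) (le_sup_right.trans le_sup_right) hA hAB hAX (h2 j)
        (hred _ _ le_sup_left (V_leJ le_sup_left)))
    · exact Or.inl (a.blkIn hc le_sup_left (hY i j) (f i) (p i) (le_sup_left.trans le_sup_right) hA hAB hAX (h2 i)
        (hred _ _ le_sup_left (V_leJ le_sup_left)))

end fam

end Adm

end Cfsg.Agent.Omega.NO3b.Seed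

end
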