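import Cfsg.Agent.Mrg.Omega.NO3b.Seed.Gam
import Cfsg.Agent.Mrg.Omega.NO3b.Seed.BetaTwo
import Cfsg.Agent.Mrg.Omega.NO3b.BasePt.FamU
import Cfsg.Agent.Mrg.Omega.NO3b.BasePt.Red
import Cfsg.Agent.Mrg.Omega.NO3b.Exit.BlkBP
import Cfsg.Agent.Mrg.Omega.NOThreeL.EndFiveKey
import Cfsg.Agent.Mrg.Omega.NO3S.Fld.LevEnd
import Cfsg.Agent.Mrg.Omega.NO3b.Exit.AllLocal

section


/-!
# Families of panels at the maximal admissible frame with a seed `Y` (`BetaTwo/LocG.lean`)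

`LocY S Y M B`, `V = VB Y B`, `(F i, T i, X i)` a nonempty family of panels of `V` over `Z`, `J = JB B X =
⟨N_G(B), X i⟩`:

* `LocY.loc_fam`, `LocY.isLoc_fam` : `J` is 2-local; `LocY.Yz_fam` : `Y ≤ Ω₁(Z(O₂(J)))`;
* `LocY.gam_fam` : `⟨Y^J⟩` is FF.
-/

set_option autoImplicit false
set_option linter.unusedSectionVars false

namespace Cfsg.Agent.Omega.NO3b.Seed

open Subgroup Cfsg
open Cfsg.Agent.ZN (o2 zc zl)
open Cfsg.Agent.Omega.MinPar (IsLoc)
open Cfsg.Agent.Omega.NO3b.EZero (NotFF Par cl)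
open Cfsg.Agent.Omega.NO3b.Alpha (Fl)
open Cfsg.Agent.Omega.NO3b.BetaTwo (JB NB_le_JB X_le_JB)

universe u v

namespace LocY

variable {G : Type u} [Group G] [Finite G] {S : Sylow 2 G} {Y M B : Subgroup G}

/-- `Y ≤ Ω₁(Z(O₂(J)))` for every local `J ≥ N_G(B)`. -/
theorem Yz (g : LocY S Y M B) {J : Subgroup G} (hJ : normalizer (B : Set G) ≤ J)
    (hloc : ∃ R : Subgroup G, R ≠ ⊥ ∧ IsPGroup 2 R ∧ J ≤ normalizer (R : Set G)) : Y ≤ zc (o2 J) := by
  obtain ⟨R, hR, hR2, hJR⟩ := hloc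
  exact g.seed.le _ (MinPar.isLoc_of_le_normalizer S (g.stage.le.trans hJ) hR2 hR hJR) hJ

variable {ι : Type v} [Nonempty ι] (g : LocY S Y M B) (hG : IsCharacteristicTwoType G)
  (hne : zc (S : Subgroup G) ≠ ⊥) (F T X : ι → Subgroup G)
  (f : ∀ i, Fl S (VB Y B) (F i) (T i)) (hZ : ∀ i, zc (S : Subgroup G) ≤ F i)
  (p : ∀ i, Par (VB Y B) (F i) (T i) (X i))
include g hG hne f hZ p

/-- every family of panels over `Z` is local -/
theorem loc_fam : ∃ R : Subgroup G, R ≠ ⊥ ∧ IsPGroup 2 R ∧ JB B X ≤ normalizer (R : Set G) :=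
  Seed.loc_fam g.adm hG f p fun i => g.two hG hne (f i) (hZ i) (p i)

theorem isLoc_fam : IsLoc (S : Subgroup G) (JB B X) := by
  obtain ⟨R, hR, hR2, hJR⟩ := g.loc_fam hG hne F T X f hZ p
  exact MinPar.isLoc_of_le_normalizer S (S_le_JB g.adm) hR2 hR hJR

theorem Yz_fam : Y ≤ zc (o2 (JB B X)) := g.Yz NB_le_JB (g.loc_fam hG hne F T X f hZ p)

/-- **every family of panels over `Z` has `⟨Y^J⟩` FF** -/
theorem gam_fam : ¬ NotFF (cl Y (JB B X)) :=
  ff_adm g.adm hG f p (g.Yz_fam hG hne F T X f hZ p) (g.loc_fam hG hne F T X f hZ p)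
    (fun i => g.two hG hne (f i) (hZ i) (p i)) (S_ne hne) g.min

end LocY

end Cfsg.Agent.Omega.NO3b.Seed

end

section


/-!
# The chain with a seed `Y`: the blocks of `V` (#20856 (2), #22211)

`LocY S Y M B` (`Seed/Max.lean`), `V = VB Y B`, `L = N_G(B)`.

* `LocY.exists_fam` : the set `𝒴` of all blocks, `V = Σ [V, Y'] + C_V(RR 𝒴)`, the flats of the panels over `Z` are
  `C_V(Q)`, `Q ≤ Y' ∈ 𝒴`.
-/

set_option autoImplicit false

namespace Cfsg.Agent.Omega.NO3b.Seed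

open Subgroup Cfsg
open Cfsg.Agent.ZN (o2 zc zl jj zj)
open Cfsg.Agent.ZN.ChoiceBase hiding mem_zc
open Cfsg.Agent.Omega.MinPar (IsParS IsLoc isLoc_of_le_normalizer)
open Cfsg.Agent.Omega.NO3b.EZero (NotFF Par cl le_cl cj_le_cl cl_le le_normalizer_cl)
open Cfsg.Agent.Omega.NO3b.Alpha (Fl)
open Cfsg.Agent.Omega.NO3b.Exit (wc_S_le)
open Cfsg.Agent.Omega.NO3b.Exit.Bridge
open Cfsg.Agent.Omega.NO3b.Exit.TDat (Red)
open Cfsg.Agent.Omega.NO3b.BetaTwo (JB)
open Cfsg.Agent.Omega.NO3b.BasePt (BlkIn PanSys Fam RR sm)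
open Cfsg.Agent.Omega.NO3b.BasePt.FamG (BU)
open Cfsg.Agent.Omega.FFBr (XX im)
open Cfsg.Agent.Omega.FF.Basic (fx)

universe u v

variable {G : Type u} [Group G]

theorem BU_of {S V M₀ F U H : Subgroup G} {hH : H ≤ normalizer (U : Set G)} {hU : U ≤ centralizer (U : Set G)}
    (hVU : V ≤ U) (hMH : M₀ ≤ H) (b : BlkIn S V M₀ F hH hU) : BU V M₀ F U := by
  obtain ⟨BB, Lw, C, x, hV, b⟩ := b
  exact ⟨hVU, H, hH, hU, hV, hMH, _, _, _, _, _, _, _, b⟩

variable [Finite G] {S : Sylow 2 G} {Y M B : Subgroup G}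

namespace LocY

/-- **The blocks of `V`.** -/
theorem exists_fam (g : LocY S Y M B) (hG : IsCharacteristicTwoType G) (hne : zc (S : Subgroup G) ≠ ⊥)
    (hK : Core (S : Subgroup G) Y) (hpar : ∀ R, IsParS (S : Subgroup G) R → R ≤ M)
    {N : Subgroup G} (hN : N ≤ normalizer (VB Y B : Set G)) (hV : VB Y B ≤ centralizer (VB Y B : Set G))
    (hMN : normalizer (B : Set G) ≤ N) :
    ∃ 𝒴 : Set (Subgroup (XX hN)), Fam (MU hV) (im hN (normalizer (B : Set G))) 𝒴 ∧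
      (∀ w : MU hV, ∃ a ∈ sm (MU hV) 𝒴, ∃ c : MU hV, (∀ r ∈ RR 𝒴, r • c = c) ∧ w = a + c) ∧
      ∀ F T X : Subgroup G, Fl S (VB Y B) F T → zc (S : Subgroup G) ≤ F → Par (VB Y B) F T X →
        ∃ Y' ∈ 𝒴, ∃ Q ≤ Y', fx (MU hV) Q = ad hV F := by
  let ι := {t : Subgroup G × Subgroup G × Subgroup G // Fl S (VB Y B) t.1 t.2.1 ∧
    zc (S : Subgroup G) ≤ t.1 ∧ Par (VB Y B) t.1 t.2.1 t.2.2}
  have hJ : ∀ X X' : Subgroup G, JB B (fun b : Bool => if b then X else X') = normalizer (B : Set G) ⊔ (X ⊔ X') := by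
    intro X X'
    rw [JB, iSup_bool_eq]
    rfl
  have ps := g.adm.panSys (ι := ι) (F := fun t => t.1.1) (T := fun t => t.1.2.1) (X := fun t => t.1.2.2) hG
    (fun t => t.2.1) (fun t => t.2.2.2) (fun t => g.two hG hne t.2.1 t.2.2.1 t.2.2.2) (by
      rintro ⟨⟨F, T, X⟩, f, hZ, p⟩ ⟨⟨F', T', X'⟩, f', hZ', p'⟩
      have h1 := g.Yz_fam hG hne (ι := Bool) (fun b => if b then F else F') (fun b => if b then T else T')
        (fun b => if b then X else X') (by rintro (_ | _); exacts [f', f]) (by rintro (_ | _); exacts [hZ', hZ])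
        (by rintro (_ | _); exacts [p', p])
      rwa [hJ] at h1)
    (by
      rintro ⟨⟨F, T, X⟩, f, hZ, p⟩ ⟨⟨F', T', X'⟩, f', hZ', p'⟩
      have h1 := g.gam_fam hG hne (ι := Bool) (fun b => if b then F else F') (fun b => if b then T else T')
        (fun b => if b then X else X') (by rintro (_ | _); exacts [f', f]) (by rintro (_ | _); exacts [hZ', hZ])
        (by rintro (_ | _); exacts [p', p])
      rwa [hJ] at h1)
    (fun hH hU hM hVU => g.red hH hU hG hK hpar hM hVU)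
  have hred : Red (im hN (normalizer (B : Set G))) (⊤ : AddSubgroup (MU hV)) := by
    have h1 := g.red hN hV hG hK hpar hMN le_rfl
    rwa [ad_U] at h1
  obtain ⟨𝒴, h1, h2, h3⟩ := BasePt.FamG.exists_fam (hN := hN) (hV := hV) g.adm.sq hred hMN g.adm.nff (ι := ι) (fun t => t.1.1)
    (fun t => cl Y (normalizer (B : Set G) ⊔ t.1.2.2)) ps.FV
    (fun t h0 => t.2.1.nle (by rw [h0]; exact centralizer_le_normalizer _))
    (fun t => BU_of (ps.VU t) (ps.MH t) (ps.one t))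
    (fun t t' => by
      obtain ⟨U', H', hH', hU', h1, h2, h3, h4⟩ := ps.two t t'
      exact ⟨U', h1, h2, h4.imp (BU_of ((ps.VU t).trans h1) h3) (BU_of ((ps.VU t).trans h1) h3)⟩)
  exact ⟨𝒴, h1, h2, fun F T X f hZ p => h3 ⟨(F, T, X), f, hZ, p⟩⟩

end LocY

end Cfsg.Agent.Omega.NO3b.Seed

end

section


/-!
# GammaFF, the case (G) = (S4) (#20856 (2)): the end

`CaseG S P`, `LocY S X₀ M₀ B` (`Seed/MaxG.lean`), the blocks of `V = VB X₀ B` (`Seed/FamG.lean`), the base point over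
`M = P` (`BasePt/EndFam.lean`).

* `CaseG.exists_baseFlag` : there is a base flag;
* `CaseG.false_of` : (ML) and the exact end refute the case (G); `gamG_of` : `GamG K`.
-/

set_option autoImplicit false

namespace Cfsg.Agent.Omega.NO3S.Level

open Subgroup Cfsg Cfsg.Agent.ZN Cfsg.Agent.ZN.ChoiceBase Cfsg.Agent.Omega.MinPar Cfsg.Agent.Omega.Frame
open Cfsg.Agent.Omega.ML.Final (MLK)
open Cfsg.Agent.Omega.NO3b
open Cfsg.Agent.Omega.NO3b.BasePt (BaseFlag ExactEndS baseFlag_of_fam)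
open Cfsg.Agent.Omega.NO3b.EZero (le_normalizer_cl)

universe u

/-- **The base flag in the case (G).** -/
theorem CaseG.exists_baseFlag {G : Type u} [Group G] [Finite G] {S : Sylow 2 G} {P : Subgroup G} (h : CaseG S P) :
    ∃ S₁ Z₁ V₁ Lam : Subgroup G, BaseFlag S₁ Z₁ V₁ Lam := by
  obtain ⟨B, g⟩ := h.exists_locY
  have hG := h.ctx.char2
  have hSne := h.ctx.sylow_ne_bot S
  obtain ⟨𝒴, Fa, gas, fl⟩ := g.exists_fam hG h.zc_ne h.core (fun R hR => Level.par_le hR)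
    (N := normalizer (B : Set G)) (le_normalizer_cl _ _) g.adm.comm le_rfl
  exact ⟨_, _, _, _, baseFlag_of_fam g.adm.lines le_rfl Fa gas fl g.adm.cs
    (fun _ _ p => p.exists_optY g.oz hG (Final.stmtOff G) hSne) hG hSne (M := P)
    ((Level.par_le h.pss.par).trans g.le) (le_sSup ⟨h.pss.par, le_rfl⟩) h.pss.nonLoc⟩

/-- **The case (G) does not occur.** -/
theorem CaseG.false_of {G : Type u} [Group G] [Finite G] {S : Sylow 2 G} {P : Subgroup G} (h : CaseG S P)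
    (ml : MLK.{u, u}) (hE : ExactEndS.{u}) : False := by
  obtain ⟨S₁, Z₁, V₁, Lam, hb⟩ := h.exists_baseFlag
  exact hb.false_of h.ctx ml hE

/-- **`GamG K`** = (S4). -/
theorem gamG_of {K : Cls.{u}} (ml : MLK.{u, u}) (hE : ExactEndS.{u}) : GamG K :=
  fun _ _ _ _ _ _ h => (h.false_of ml hE).elim

end Cfsg.Agent.Omega.NO3S.Level

end

section


/-!
# The panels of the maximal frame `LocY` as a system `PanSys`

`g : LocY S Y M B`, `V = VB Y B`, `(F i, T i, X i)` panels of `V` over `Z`, `J = JB B X = ⟨N_G(B), X i⟩`: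

* `LocY.sys_loc` : `J` is 2-local; `LocY.sys_isLoc`, `LocY.sys_Y_le` : `Y ≤ Ω₁(Z(O₂(J)))`; `LocY.sys_Y_le_pair`;
* `LocY.sys_pan` : the panels form a `PanSys` if `⟨Y^J⟩` is FF for all pairs.
-/

set_option autoImplicit false
set_option linter.unusedSectionVars false

namespace Cfsg.Agent.Omega.NO3b.Seed

open Subgroup Cfsg
open Cfsg.Agent.ZN (o2 zc zl jj zj)
open Cfsg.Agent.ZN.ChoiceBase hiding mem_zc
open Cfsg.Agent.Omega.MinPar Cfsg.Agent.Omega.Frame Cfsg.Agent.Omega.FrameNOFF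
open Cfsg.Agent.Omega.NO3b.EZero (NotFF Par cl le_cl cj_le_cl cl_le le_normalizer_cl)
open Cfsg.Agent.Omega.NO3b.Alpha (Fl)
open Cfsg.Agent.Omega.NO3b.Exit (wc_S_le)
open Cfsg.Agent.Omega.NO3b.Exit.TDat (Red)
open Cfsg.Agent.Omega.NO3b.Exit.Bridge
open Cfsg.Agent.Omega.NO3b.BetaTwo (JB)
open Cfsg.Agent.Omega.NO3b.BasePt (PanSys)
open Cfsg.Agent.Omega.FFBr (XX im)

universe u v

variable {G : Type u} [Group G] [Finite G] {S : Sylow 2 G} {Y M B : Subgroup G}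

namespace LocY

section fam

variable (g : LocY S Y M B) (hG : IsCharacteristicTwoType G) (hne : zc (S : Subgroup G) ≠ ⊥)
  {ι : Type v} {F T X : ι → Subgroup G}
  (f : ∀ i, Fl S (VB Y B) (F i) (T i)) (hZ : ∀ i, zc (S : Subgroup G) ≤ F i)
  (p : ∀ i, Par (VB Y B) (F i) (T i) (X i))
include g hG hne f hZ p

/-- **`J = ⟨N_G(B), X i⟩` is 2-local** -/
theorem sys_loc [Nonempty ι] :
    ∃ R : Subgroup G, R ≠ ⊥ ∧ IsPGroup 2 R ∧ JB B X ≤ normalizer (R : Set G) := by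
  have h2 : ∀ i, K0.Mix.Two (VB Y B) (X i) := fun i => g.two hG hne (f i) (hZ i) (p i)
  obtain ⟨R, hR, hR2, h3, h4⟩ := NO3b.Exit.exists_loc_fam FFBr.aStmt hG g.adm.lines F T X f p h2
  rw [g.adm.cs] at h3
  exact ⟨R, hR, hR2, sup_le h3 (iSup_le h4)⟩

theorem sys_isLoc [Nonempty ι] : IsLoc (S : Subgroup G) (JB B X) := by
  obtain ⟨R, hR, hR2, h1⟩ := g.sys_loc hG hne f hZ p
  exact isLoc_of_le_normalizer S ((wc_S_le g.adm.wc).trans BetaTwo.NB_le_JB) hR2 hR h1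

/-- `Y ≤ Ω₁(Z(O₂(J)))` -/
theorem sys_Y_le [Nonempty ι] : Y ≤ zc (o2 (JB B X)) :=
  g.seed.le _ (g.sys_isLoc hG hne f hZ p) BetaTwo.NB_le_JB

/-- `Y ≤ Ω₁(Z(O₂(J)))` for two panels -/
theorem sys_Y_le_pair (i j : ι) : Y ≤ zc (o2 (normalizer (B : Set G) ⊔ (X i ⊔ X j))) := by
  have h1 := g.sys_Y_le hG hne (ι := Bool) (F := fun b => if b then F i else F j)
    (T := fun b => if b then T i else T j) (X := fun b => if b then X i else X j)
    (by rintro (_ | _); exacts [f j, f i]) (by rintro (_ | _); exacts [hZ j, hZ i])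
    (by rintro (_ | _); exacts [p j, p i])
  have e : JB B (fun b : Bool => if b then X i else X j) = normalizer (B : Set G) ⊔ (X i ⊔ X j) := by
    rw [JB, iSup_bool_eq]
    rfl
  rwa [e] at h1

/-- **the panels of `V` form a system** -/
theorem sys_pan (hK : Core (S : Subgroup G) Y) (hpar : ∀ R, IsParS (S : Subgroup G) R → R ≤ M)
    (hff : ∀ i j, ¬ NotFF (cl Y (normalizer (B : Set G) ⊔ (X i ⊔ X j)))) :
    PanSys (S : Subgroup G) (VB Y B) (normalizer (B : Set G)) F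
      (fun i => cl Y (normalizer (B : Set G) ⊔ X i)) (fun i => normalizer (B : Set G) ⊔ X i) :=
  g.adm.panSys hG f p (fun i => g.two hG hne (f i) (hZ i) (p i)) (g.sys_Y_le_pair hG hne f hZ p) hff
    fun hH hU hM hVU => g.red hH hU hG hK hpar hM hVU

end fam

end LocY

end Cfsg.Agent.Omega.NO3b.Seed

end
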